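import Cfsg.Agent.MQ.Steps
import Cfsg.Agent.MQ.A.Glob.Main
import Cfsg.Agent.MQ.Loc.Om
import Cfsg.Agent.ODD.Red.Bas
import Cfsg.Agent.FastGrp
import Cfsg.Agent.Prune
set_option linter.all false
prune_inst 0x7ffcfefb2be809dfdfff7fbfaedcdfffb0ac2fffe6fffdcb7fe061bfab9f6b00cbc76b8d8bf812fc1ff7e29414f87b13fdffce7fe86bdc7ffffd5ff45ffbff8fedf7bd09519488340fbc2ffe63f07f8e6f3ffffffffffffffffffff7ffffffbefffff3feffff
open scoped Cfsg.Agent.FastGrp

-- part: MO/Asm
section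
/-!
# MO: the assembly (helper76)

* `known_cases` : a known simple group is cyclic, alternating, sporadic, the Tits group or of Lie type;
* `allGd_of` : the rows and the classification give `AllGd p`;
* `main_of` : the statement of S4815 from the classification, the case `p = 2` and the rows for the odd primes.
-/

set_option autoImplicit false

namespace Cfsg.Agent.MO

open Cfsg Subgroup

universe u

theorem char_of (F : Type) [Field F] [Fintype F] : ∃ r : ℕ, r.Prime ∧ CharP F r :=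
  ⟨ringChar F, CharP.char_is_prime F _, ringChar.charP F⟩

theorem known_cases {S : Type} [Group S] (h : IsKnownSimple' S) : IsPrimeCyclic S ∨ IsAlternating S ∨
    IsSporadicGroup S ∨ Lie.IsoTits S ∨ ∃ r : ℕ, r.Prime ∧ IsLieTypeChar r S := by
  have k : ∀ (F : Type) [Field F] [Fintype F], (∀ r, CharP F r → IsLieTypeChar r S) → IsPrimeCyclic S ∨ IsAlternating S ∨
      IsSporadicGroup S ∨ Lie.IsoTits S ∨ ∃ r : ℕ, r.Prime ∧ IsLieTypeChar r S := fun F _ _ h =>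
    (char_of F).elim fun r hr => .inr (.inr (.inr (.inr ⟨r, hr.1, h r hr.2⟩)))
  rcases h with h | h | h | h | h | h | h | h | h | h
  · exact .inl h
  · exact .inr (.inl h)
  · obtain ⟨F, _, _, h⟩ := h
    exact k F fun r c => .inl ⟨F, inferInstance, inferInstance, c, h⟩
  · obtain ⟨F, _, _, h⟩ := h
    exact k F fun r c => .inr (.inl ⟨F, inferInstance, inferInstance, c, h⟩)
  · obtain ⟨F, _, _, h⟩ := h
    exact k F fun r c => .inr (.inr (.inl ⟨F, inferInstance, inferInstance, c, h⟩))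
  · obtain ⟨F, _, _, h⟩ := h
    exact k F fun r c => .inr (.inr (.inr (.inl ⟨F, inferInstance, inferInstance, c, h⟩)))
  · obtain ⟨F, _, _, h⟩ := h
    exact k F fun r c => .inr (.inr (.inr (.inr (.inl ⟨F, inferInstance, inferInstance, c, h⟩))))
  · obtain ⟨F, _, _, h⟩ := h
    exact k F fun r c => .inr (.inr (.inr (.inr (.inr (.inl ⟨F, inferInstance, inferInstance, c, h⟩)))))
  · have ex : ∀ {r}, IsExceptionalChevChar r S → IsLieTypeChar r S :=
      fun h => .inr (.inr (.inr (.inr (.inr (.inr (.inl h))))))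
    have tw : ∀ {r}, IsTwistedE6D4Char r S → IsLieTypeChar r S :=
      fun h => .inr (.inr (.inr (.inr (.inr (.inr (.inr (.inl h)))))))
    rcases h with h | h | h | h | h | h | h | h | h | h | h
    · obtain ⟨F, _, _, h⟩ := h
      exact k F fun r c => ex ⟨F, inferInstance, inferInstance, c, .inl h⟩
    · obtain ⟨F, _, _, h⟩ := h
      exact k F fun r c => ex ⟨F, inferInstance, inferInstance, c, .inr (.inl h)⟩
    · obtain ⟨F, _, _, h⟩ := h
      exact k F fun r c => ex ⟨F, inferInstance, inferInstance, c, .inr (.inr (.inl h))⟩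
    · obtain ⟨F, _, _, h⟩ := h
      exact k F fun r c => ex ⟨F, inferInstance, inferInstance, c, .inr (.inr (.inr (.inl h)))⟩
    · obtain ⟨F, _, _, h⟩ := h
      exact k F fun r c => ex ⟨F, inferInstance, inferInstance, c, .inr (.inr (.inr (.inr h)))⟩
    · obtain ⟨F, _, _, q, h1, h2⟩ := h
      exact k F fun r c => tw ⟨F, inferInstance, inferInstance, c, q, h1, .inl h2⟩
    · obtain ⟨F, _, _, q, h1, h2⟩ := h
      exact k F fun r c => tw ⟨F, inferInstance, inferInstance, c, q, h1, .inr h2⟩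
    · exact .inr (.inr (.inr (.inr ⟨2, Nat.prime_two,
        .inr (.inr (.inr (.inr (.inr (.inr (.inr (.inr (.inl ⟨rfl, h⟩))))))))⟩)))
    · exact .inr (.inr (.inr (.inr ⟨3, Nat.prime_three,
        .inr (.inr (.inr (.inr (.inr (.inr (.inr (.inr (.inr (.inr ⟨rfl, h⟩)))))))))⟩)))
    · exact .inr (.inr (.inr (.inr ⟨2, Nat.prime_two,
        .inr (.inr (.inr (.inr (.inr (.inr (.inr (.inr (.inr (.inl ⟨rfl, h⟩)))))))))⟩)))
    · exact .inr (.inr (.inr (.inl h)))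
  · exact .inr (.inr (.inl h))

/-- the classification (S0000 in the universe `0`) -/
def Cls : Prop := ∀ (S : Type) [Group S] [Finite S] [IsSimpleGroup S], IsKnownSimple' S

theorem allGd_of (hC : Cls) {p : ℕ} (b : Box p) : AllGd p := by
  intro X _ _ Γ s
  have := s.qs.2
  rcases known_cases (hC (X ⧸ center X)) with h | h | h | h | ⟨r, hr, h⟩
  · exact absurd h ODD.not_prime
  · exact b.alt X h Γ s
  · exact b.spor X h Γ s
  · exact b.tits X h Γ s
  · by_cases e : r = p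
    · exact b.dfn X (e ▸ h) Γ s
    · exact b.cross X ⟨r, hr, e, h⟩ Γ s

/-- the case `p = 2` (S4596) -/
def Two : Prop :=
  ∀ (G : Type u) [Group G] [Finite G] (P : Sylow 2 G),
    Nat.card {χ : IrrCharacter G // Odd (charDegree (χ : G → ℂ))} =
      Nat.card {ψ : IrrCharacter (normalizer ((P : Subgroup G) : Set G)) //
        Odd (charDegree (ψ : normalizer ((P : Subgroup G) : Set G) → ℂ))}

/-- **the assembly** -/
theorem main_of (hC : Cls) (h2 : Two.{u}) (b : ∀ (p : ℕ) [Fact p.Prime], p ≠ 2 → Box p)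
    {G : Type u} [Group G] [Finite G] (p : ℕ) [Fact p.Prime] (P : Sylow p G) :
    Nat.card {χ : IrrCharacter G // ¬ p ∣ charDegree (χ : G → ℂ)} =
      Nat.card {ψ : IrrCharacter (normalizer ((P : Subgroup G) : Set G)) //
        ¬ p ∣ charDegree (ψ : normalizer ((P : Subgroup G) : Set G) → ℂ)} := by
  by_cases e : p = 2
  · subst e
    simpa only [← Nat.not_even_iff_odd, even_iff_two_dvd] using h2 G P
  · exact mckay_of (allGd_of hC (b p e)) P

end Cfsg.Agent.MO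
end

-- part: MO/B/Defs
section
/-!
# MO, the reduction to one component: the interface (helper76)

* `Cf p Γ G Z` : the finite group `G` has the single component `X`, `G / Z ≃ Γ`, `Z` is the centre, of order prime to `p`;
* `Bi p Γ` : `Γ / Inn X` is a normal `p`-group extended by an abelian `p'`-group with two generators;
* `One p X Γ` : the relative McKay equality for all these `G` and all faithful `l`; `Row1`, `Box1`;
* `StepBi p` : `One` in the situations `Bi` is enough (proved in `MO/B/Main.lean`);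
* `Cf.conf` : the configuration with one component, `Cf.eqv`, `one_of_gd`, `Row.row1`, `one_of_sub`;
* `main_of1` : the assembly.
-/

set_option autoImplicit false

namespace Cfsg.Agent.MO

open Cfsg Subgroup
open Cfsg.Agent.MK (Ov Fa Cj In Nm St rs Supp)
open Cfsg.Agent.ODD (Fam)

universe u

section comp

variable (p : ℕ) {X : Type} [Group X]

/-- a finite group with the single component `X` -/
structure Cf (Γ : Subgroup (MulAut X)) (G : Type) [Group G] (Z : Subgroup G) where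
  e : X →* G
  a : G →* MulAut X
  inj : Function.Injective e
  ha : ∀ g x, g * e x * g⁻¹ = e (a g x)
  rng : a.range = Γ
  ker : a.ker = Z
  cen : Z ≤ center G
  cop : ¬ p ∣ Nat.card Z

/-- `Γ / Inn X` is a `p`-group extended by an abelian `p'`-group with two generators -/
def Bi (Γ : Subgroup (MulAut X)) : Prop :=
  ∃ R : Subgroup (MulAut X), R ≤ Γ ∧ (∀ x : X, MulAut.conj x ∈ R) ∧ (∀ α ∈ Γ, ∀ β ∈ R, α * β * α⁻¹ ∈ R) ∧
    (∀ β ∈ R, ∃ (k : ℕ) (x : X), β ^ p ^ k = MulAut.conj x) ∧ ¬ p ∣ R.relIndex Γ ∧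
    ∃ α ∈ Γ, ∃ β ∈ Γ, α * β * α⁻¹ * β⁻¹ ∈ R ∧ ∀ γ ∈ Γ, ∃ ρ ∈ R, ∃ i j : ℕ, γ = ρ * α ^ i * β ^ j

variable (X) in
/-- the equality for the groups with one component -/
def One (Γ : Subgroup (MulAut X)) : Prop :=
  ∀ (G : Type) [Group G] [Finite G] (Z : Subgroup G) (_ : Cf p Γ G Z) (l : G → ℂ), Fa Z l → ∀ P : Sylow p G,
    kk p ⊤ Z l = kk p (normalizer ((P : Subgroup G) : Set G)) Z l

end comp

/-- **a row with one component** -/
def Row1 (p : ℕ) (K : Fam) : Prop :=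
  ∀ (X : Type) [Group X] [Finite X], K (X ⧸ center X) → ∀ Γ : Subgroup (MulAut X), Sit p X Γ → Bi p Γ → One p X Γ

/-- all rows -/
structure Box1 (p : ℕ) : Prop where
  alt : Row1 p fun S _ => IsAlternating S
  spor : Row1 p fun S _ => IsSporadicGroup S
  tits : Row1 p fun S _ => Lie.IsoTits S
  dfn : Row1 p fun S _ => IsLieTypeChar p S
  cross : Row1 p (Cross p)

def AllOne (p : ℕ) : Prop :=
  ∀ (X : Type) [Group X] [Finite X] (Γ : Subgroup (MulAut X)), Sit p X Γ → Bi p Γ → One p X Γ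

/-- **the reduction to one component** -/
def StepBi (p : ℕ) : Prop := AllOne p → Crit p

namespace Cf

variable {p : ℕ} {X : Type} [Group X] {Γ : Subgroup (MulAut X)} {G : Type} [Group G] {Z : Subgroup G} (c : Cf p Γ G Z)

theorem a_e (x : X) : c.a (c.e x) = MulAut.conj x := MulEquiv.ext fun y => c.inj (by
  rw [← c.ha, MulAut.conj_apply, map_mul, map_mul, map_inv])

theorem mem (g : G) : c.a g ∈ Γ := c.rng.le ⟨g, rfl⟩

theorem onto {α : MulAut X} (h : α ∈ Γ) : ∃ g, c.a g = α := c.rng.ge h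

theorem mem_Z {g : G} : g ∈ Z ↔ c.a g = 1 := ⟨fun h => c.ker.ge h, fun h => c.ker.le h⟩

include c in
theorem index_Z : Z.index = Nat.card Γ := by
  have h := index_ker c.a
  rwa [c.ker, c.rng] at h

theorem index_comap {R : Subgroup (MulAut X)} : (R.comap c.a).index = R.relIndex Γ := by
  rw [Subgroup.index_comap, c.rng]

theorem mem_sup {g : G} {x : X} (h : c.a g = MulAut.conj x) : g ∈ Z ⊔ c.e.range := by
  have h1 : g * (c.e x)⁻¹ ∈ Z := c.mem_Z.2 (by rw [map_mul, map_inv, c.a_e, h, mul_inv_cancel])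
  rw [← inv_mul_cancel_right g (c.e x)]
  exact mul_mem (mem_sup_left h1) (mem_sup_right ⟨x, rfl⟩)

/-- the configuration with one component -/
def conf (s : Sit p X Γ) : Conf p Γ G Z Unit where
  e _ := c.e
  π := 1
  a g _ := c.a g
  inj _ := c.inj
  ha g _ x := c.ha g x
  mem g _ := c.mem g
  onto _ _ _ h := (c.onto h).imp fun _ hg => ⟨rfl, hg⟩
  ne := inferInstance
  comm _ _ h := absurd rfl h
  pie _ _ := rfl
  cen := c.cen
  ker _ _ h := c.mem_Z.2 (h ())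
  cop := c.cop
  cl := by
    obtain ⟨R, -, h2, h3, h4, h5⟩ := s.cl
    refine ⟨R.comap c.a, ⟨fun g hg b => ?_⟩, sup_le (fun z hz => ?_) (iSup_le fun _ => ?_), fun g hg => ?_,
      by rwa [c.index_comap]⟩
    · rw [mem_comap, map_mul, map_mul, map_inv]
      exact h3 _ (c.mem b) _ hg
    · rw [mem_comap, c.mem_Z.1 hz]
      exact one_mem _
    · rintro _ ⟨x, rfl⟩
      rw [mem_comap, c.a_e]
      exact h2 x
    · obtain ⟨k, x, h⟩ := h4 _ hg
      rw [iSup_const]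
      exact ⟨k, c.mem_sup (by rw [map_pow, h])⟩
  ih := c.index_Z ▸ s.ih

theorem hat_conf (s : Sit p X Γ) (Λ : Subgroup (MulAut X)) : (c.conf s).hat Λ = Λ.comap c.a :=
  Subgroup.ext fun _ => ⟨fun h => h (), fun h _ => h⟩

/-- the steps of `MO` for a group with one component -/
theorem eqv [Finite G] (s : Sit p X Γ) {Λ Λ' : Subgroup (MulAut X)} (h : Eqv p Γ Λ Λ') {l : G → ℂ} (hl : Fa Z l) :
    kk p (Λ.comap c.a) Z l = kk p (Λ'.comap c.a) Z l := by
  rw [← c.hat_conf s, ← c.hat_conf s]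
  exact h G Z Unit (c.conf s) l hl

include c in
theorem ih (s : Sit p X Γ) : IH p Z.index := c.index_Z ▸ s.ih

end Cf

variable {p : ℕ} [Fact p.Prime]

/-- it is enough to compare with a proper subgroup which contains the normaliser of a Sylow subgroup -/
theorem mck_of_sub {G : Type} [Group G] [Finite G] {Z H : Subgroup G} (ih : IH p Z.index) (hZ : Z ≤ center G)
    (Q : Sylow p G) (hH : H ≠ ⊤) (hN : normalizer ((Q : Subgroup G) : Set G) ≤ H) {l : G → ℂ}
    (h : kk p ⊤ Z l = kk p H Z l) (P : Sylow p G) : kk p ⊤ Z l = kk p (normalizer ((P : Subgroup G) : Set G)) Z l := by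
  have h1 : (Q : Subgroup G) ≤ H := le_normalizer.trans hN
  have h2 : Z ≤ H := (hZ.trans (center_le_normalizer _)).trans hN
  rw [h, MO.H.ih_sub ih hZ (MK.H.relIndex_lt h2 hH) h1 Q.2
    (nd_of_dvd Q.not_dvd_index (relIndex_dvd_index_of_le h1)), inf_eq_left.2 hN]
  exact MO.H.kk_sylow hZ l Q P

theorem one_of_sub {X : Type} [Group X] {Γ : Subgroup (MulAut X)} (s : Sit p X Γ)
    (h : ∀ (G : Type) [Group G] [Finite G] (Z : Subgroup G) (_ : Cf p Γ G Z) (l : G → ℂ), Fa Z l →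
      ∃ (Q : Sylow p G) (H : Subgroup G), H ≠ ⊤ ∧ normalizer ((Q : Subgroup G) : Set G) ≤ H ∧ kk p ⊤ Z l = kk p H Z l) :
    One p X Γ := fun G _ _ Z c l hl P => by
  obtain ⟨Q, H, h1, h2, h3⟩ := h G Z c l hl
  exact mck_of_sub (c.ih s) c.cen Q h1 h2 h3 P

/-- the old rows are rows -/
theorem one_of_gd {X : Type} [Group X] [Finite X] {Γ : Subgroup (MulAut X)} (s : Sit p X Γ) (h : Gd p X Γ) :
    One p X Γ := by
  obtain ⟨Λ, Q, hle, hne, hN, hE⟩ := h
  refine one_of_sub s fun G _ _ Z c l hl => ?_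
  have h1 : In Γ = ⊤ := eq_top_iff.2 fun x _ => s.inn x
  obtain ⟨P₀, -, h4, h5, h6⟩ := H.exists_P (c.conf s) s (Λ := Γ) (Q := Q) (h1 ▸ le_top) Q.2 (by
    rw [h1, relIndex_top_right]
    exact Q.not_dvd_index)
  rw [H.hat_top, relIndex_top_right] at h5
  rw [H.hat_top, inf_top_eq] at h6
  have h10 := hE G Z Unit (c.conf s) l hl
  rw [H.hat_top] at h10
  exact ⟨h4.toSylow h5, _, H.hat_ne_top (c.conf s) hle hne, h6.trans (H.hat_mono _ hN), h10⟩

theorem Row.row1 {K : Fam} (r : Row p K) : Row1 p K := fun X _ _ h Γ s _ => one_of_gd s (r X h Γ s)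

theorem Box.box1 (b : Box p) : Box1 p := ⟨b.alt.row1, b.spor.row1, b.tits.row1, b.dfn.row1, b.cross.row1⟩

omit [Fact p.Prime] in
theorem allOne_of (hC : Cls) (b : Box1 p) : AllOne p := by
  intro X _ _ Γ s
  have := s.qs.2
  rcases known_cases (hC (X ⧸ center X)) with h | h | h | h | ⟨r, hr, h⟩
  · exact absurd h ODD.not_prime
  · exact b.alt X h Γ s
  · exact b.spor X h Γ s
  · exact b.tits X h Γ s
  · by_cases e : r = p
    · exact b.dfn X (e ▸ h) Γ s
    · exact b.cross X ⟨r, hr, e, h⟩ Γ s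

/-- **the assembly**, from the step `StepBi` -/
theorem main_of_bi (hC : Cls) (h2 : Two.{u}) (hB : ∀ (p : ℕ) [Fact p.Prime], StepBi p)
    (b : ∀ (p : ℕ) [Fact p.Prime], p ≠ 2 → Box1 p) {G : Type u} [Group G] [Finite G] (p : ℕ) [Fact p.Prime]
    (P : Sylow p G) : Nat.card {χ : IrrCharacter G // ¬ p ∣ charDegree (χ : G → ℂ)} =
      Nat.card {ψ : IrrCharacter (normalizer ((P : Subgroup G) : Set G)) //
        ¬ p ∣ charDegree (ψ : normalizer ((P : Subgroup G) : Set G) → ℂ)} := by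
  by_cases e : p = 2
  · subst e
    simpa only [← Nat.not_even_iff_odd, even_iff_two_dvd] using h2 G P
  · exact R.s4815_of (R.red (hB p (allOne_of hC (b p e)))) P

end Cfsg.Agent.MO
end

-- part: MO/X/Defs
section
/-!
# MO, the exceptional covers: the interface (helper78)

* `ExcIn` : what the tables deliver; the name of a field is `group_cover_prime`;
* `Exc p` : the covers whose centre has order divisible by the characteristic, `Gen p` : the other ones;
* `cross_of` : the row in cross characteristic.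
-/

set_option autoImplicit false

namespace Cfsg.Agent.MO.X

open Cfsg Subgroup Cfsg.Agent.MO.S

/-- **What the tables of the exceptional covers deliver.** -/
structure ExcIn : Prop where
  u62_2_3 : ∀ (F : Type) [Field F] [Fintype F], Fintype.card F = 4 → SmC 3 2 (PSU 6 F 2)
  s62_2_3 : ∀ (F : Type) [Field F] [Fintype F], Fintype.card F = 2 → SmC 3 2 (PSp 3 F)
  o82_2_3 : ∀ (F : Type) [Field F] [Fintype F], Fintype.card F = 2 → SmC 3 2 (POmega F (quadFormPlus 4 F))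
  o82_2_5 : ∀ (F : Type) [Field F] [Fintype F], Fintype.card F = 2 → SmC 5 2 (POmega F (quadFormPlus 4 F))
  g24_2_3 : ∀ (F : Type) [Field F] [Fintype F], Fintype.card F = 4 → SmC 3 2 (Lie.chevG2.group F)
  g24_2_5 : ∀ (F : Type) [Field F] [Fintype F], Fintype.card F = 4 → SmC 5 2 (Lie.chevG2.group F)
  f42_2_3 : ∀ (F : Type) [Field F] [Fintype F], Fintype.card F = 2 → SmC 3 2 (Lie.chevF4.group F)
  f42_2_5 : ∀ (F : Type) [Field F] [Fintype F], Fintype.card F = 2 → SmC 5 2 (Lie.chevF4.group F)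
  f42_2_7 : ∀ (F : Type) [Field F] [Fintype F], Fintype.card F = 2 → SmC 7 2 (Lie.chevF4.group F)
  e62_2_3 : ∀ (K : Type) [Field K] [Fintype K], Fintype.card K = 4 → SmC 3 2 (Lie.twistedE6 K 2)
  e62_2_5 : ∀ (K : Type) [Field K] [Fintype K], Fintype.card K = 4 → SmC 5 2 (Lie.twistedE6 K 2)
  e62_2_7 : ∀ (K : Type) [Field K] [Fintype K], Fintype.card K = 4 → SmC 7 2 (Lie.twistedE6 K 2)
  e62_6_5 : ∀ (K : Type) [Field K] [Fintype K], Fintype.card K = 4 → SmC 5 6 (Lie.twistedE6 K 2)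
  e62_6_7 : ∀ (K : Type) [Field K] [Fintype K], Fintype.card K = 4 → SmC 7 6 (Lie.twistedE6 K 2)

/-- the exceptional covers -/
def Exc (p : ℕ) : Prop :=
  ∀ (X : Type) [Group X] [Finite X] (r : ℕ), r.Prime → r ≠ p → IsLieTypeChar r (X ⧸ center X) →
    r ∣ Nat.card (center X) → ∀ Γ : Subgroup (MulAut X), Sit p X Γ → Bi p Γ → One p X Γ

/-- the quotients of the simply connected groups -/
def Gen (p : ℕ) : Prop :=
  ∀ (X : Type) [Group X] [Finite X] (r : ℕ), r.Prime → r ≠ p → IsLieTypeChar r (X ⧸ center X) →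
    ¬ r ∣ Nat.card (center X) → ∀ Γ : Subgroup (MulAut X), Sit p X Γ → Bi p Γ → One p X Γ

theorem cross_of {p : ℕ} (e : Exc p) (g : Gen p) : Row1 p (Cross p) := fun X _ _ ⟨r, h1, h2, h3⟩ =>
  (Classical.em (r ∣ Nat.card (center X))).elim (e X r h1 h2 h3) (g X r h1 h2 h3)

end Cfsg.Agent.MO.X
end

-- part: MO/B/Cnt
section
/-!
# MO/B: counting by commuting pairs (helper76)

* `PS p V Z l` : the `p'`-characters of `V` over `l`; `rho` : the sum of `ξ(1) ξ`; `SS V x y` : the trace of a pair;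
* `sum_SS` : the count for `U` from the traces over a normal subgroup of `p'`-index;
* `kk_sub` : by induction only the generating pairs matter; `SS_gen` : the trace is the sum of `Om` over `IS`;
* `kk_of_pairs`, `kk_of_cyc` : criteria for `kk ⊤ = kk H`.
-/

set_option autoImplicit false
set_option maxHeartbeats 400000

namespace Cfsg.Agent.MO.B

open Cfsg Subgroup
open Cfsg.Agent.Characters.Core Cfsg.Agent.H672
open Cfsg.Agent.MK (Ov Fa deg_comp)
open Cfsg.Agent.MK.H (finite_sub relIndex_lt)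
open Cfsg.Agent.MK.C (exists_desc cen_of_over)
open scoped ComplexConjugate

variable (p : ℕ) {G : Type} [Group G] [Finite G]

/-- the `p'`-characters of `V` over `l` -/
noncomputable def PS (V Z : Subgroup G) (l : G → ℂ) : Finset (V → ℂ) :=
  (Set.finite_coe_iff.1 (finite_sub (p := fun ψ => PI p V ψ ∧ Ov V Z l ψ) fun _ h => h.1.1) :
    {ψ | PI p V ψ ∧ Ov V Z l ψ}.Finite).toFinset

/-- the sum of `ξ(1) ξ` -/
noncomputable def rho (V Z : Subgroup G) (l : G → ℂ) : G → ℂ := extendByZero V fun v => ∑ ξ ∈ PS p V Z l, ξ 1 * ξ v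

/-- the trace of a pair -/
noncomputable def SS (V Z : Subgroup G) (l : G → ℂ) (x y : G) : ℂ :=
  ((Nat.card V : ℂ) ^ 2)⁻¹ * ∑ᶠ u : V, ∑ᶠ v : V, rho p V Z l (u * x * (v * y) * (u * x)⁻¹ * (v * y)⁻¹)

open Classical in
/-- the members of `PS` which are invariant under `H` -/
noncomputable def IS (V Z : Subgroup G) (l : G → ℂ) (H : Subgroup G) : Finset (V → ℂ) :=
  (PS p V Z l).filter fun ξ => ∀ h ∈ H, ∀ v v' : V, (v' : G) = h * v * h⁻¹ → ξ v' = ξ v

variable {p} {V U U' H R Z : Subgroup G} {l : G → ℂ}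

theorem mem_PS {ξ : V → ℂ} : ξ ∈ PS p V Z l ↔ PI p V ξ ∧ Ov V Z l ξ := Set.Finite.mem_toFinset _

theorem card_PS : (PS p V Z l).card = kk p V Z l := (Nat.subtype_card _ fun _ => mem_PS).symm

theorem mem_IS {ξ : V → ℂ} : ξ ∈ IS p V Z l H ↔
    (PI p V ξ ∧ Ov V Z l ξ) ∧ ∀ h ∈ H, ∀ v v' : V, (v' : G) = h * v * h⁻¹ → ξ v' = ξ v := by
  classical
  rw [IS, Finset.mem_filter, mem_PS]

theorem rho_mem (v : V) : rho p V Z l v = ∑ ξ ∈ PS p V Z l, ξ 1 * ξ v := extendByZero_of_mem V _ v.2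

theorem rho_not {g : G} (h : g ∉ V) : rho p V Z l g = 0 := extendByZero_of_notMem V _ h

theorem SS_def [Fintype V] (x y : G) : SS p V Z l x y =
    ((Nat.card V : ℂ) ^ 2)⁻¹ * ∑ u : V, ∑ v : V, rho p V Z l (u * x * (v * y) * (u * x)⁻¹ * (v * y)⁻¹) := by
  simp only [SS, finsum_eq_sum_of_fintype]

/-- conjugation -/
abbrev cj (V : Subgroup G) {g : G} (h : g ∈ normalizer (V : Set G)) : MulAut V := V.normalizerMonoidHom ⟨g, h⟩

omit [Finite G] in
theorem cj_coe {g : G} (h : g ∈ normalizer (V : Set G)) (v : V) : (cj V h v : G) = g * v * g⁻¹ := rfl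

theorem rho_self [Fintype U] : ∑ x : U, ∑ y : U, rho p U Z l (x * y * x⁻¹ * y⁻¹) = (Nat.card U : ℂ) ^ 2 * kk p U Z l := by
  have h1 : ∀ ξ ∈ PS p U Z l, ∑ x : U, ∑ y : U, ξ 1 * ξ (x * y * x⁻¹ * y⁻¹) = (Nat.card U : ℂ) ^ 2 := fun ξ hξ => by
    have hi := (mem_PS.1 hξ).1.1
    have h := om_wit (j := MonoidHom.id U) (isIrr_isCharacter hi) hi (fun _ => rfl) (a := 1) (b := 1) (α := id) (β := id)
      (by simp) (by simp) (m := 1) (s := 1) (by simp)
    rw [one_mul, om_def, mul_comm (ξ 1), mul_assoc, inv_mul_eq_one₀ (pow_ne_zero 2 card_ne_zero_complex)] at h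
    simpa only [Finset.mul_sum, id, mul_one] using h.symm
  have h2 : ∀ x y : U, rho p U Z l (x * y * x⁻¹ * y⁻¹) = ∑ ξ ∈ PS p U Z l, ξ 1 * ξ (x * y * x⁻¹ * y⁻¹) :=
    fun x y => rho_mem (x * y * x⁻¹ * y⁻¹)
  simp only [h2]
  rw [Finset.sum_congr rfl fun x _ => Finset.sum_comm, Finset.sum_comm, Finset.sum_congr rfl h1, Finset.sum_const,
    card_PS, nsmul_eq_mul, mul_comm]

theorem cj_PS (hZ : Z ≤ center G) {g : G} (h : g ∈ normalizer (V : Set G)) {ξ : V → ℂ} (hξ : ξ ∈ PS p V Z l) :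
    ξ ∘ cj V h ∈ PS p V Z l := by
  refine mem_PS.2 ⟨(mem_PS.1 hξ).1.comp (cj V h).toMonoidHom (cj V h).surjective, fun z hz => ?_⟩
  have h1 : cj V h z = z := Subtype.ext (by rw [cj_coe, mem_center_iff.1 (hZ hz) g, mul_inv_cancel_right])
  rw [Function.comp, Function.comp, h1, map_one]
  exact (mem_PS.1 hξ).2 z hz

theorem rho_conj (hZ : Z ≤ center G) {g : G} (h : g ∈ normalizer (V : Set G)) (x : G) :
    rho p V Z l (g * x * g⁻¹) = rho p V Z l x := by
  by_cases hx : x ∈ V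
  · refine (rho_mem (cj V h ⟨x, hx⟩)).trans (Eq.trans ?_ (rho_mem ⟨x, hx⟩).symm)
    refine Finset.sum_nbij' (fun ξ => ξ ∘ cj V h) (fun ξ => ξ ∘ cj V (inv_mem h)) (fun ξ => cj_PS hZ h)
      (fun ξ => cj_PS hZ _) (fun ξ _ => funext fun v => congrArg ξ (Subtype.ext ?_))
      (fun ξ _ => funext fun v => congrArg ξ (Subtype.ext ?_)) fun ξ _ => ?_
    · rw [cj_coe, cj_coe]
      group
    · rw [cj_coe, cj_coe]
      group
    · simp only [Function.comp, map_one]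
  · rw [rho_not hx, rho_not fun e => hx ((mem_normalizer_iff.1 h x).2 e)]

omit [Finite G] in
theorem sum_ext [Fintype U] [Fintype V] (hVU : V ≤ U) (F : U → ℂ) (hF : ∀ u : U, (u : G) ∉ V → F u = 0) :
    ∑ u, F u = ∑ v, F (inclusion hVU v) := by
  classical
  rw [← Finset.sum_image (s := Finset.univ) (g := inclusion hVU) fun _ _ _ _ h => inclusion_injective hVU h]
  exact (Finset.sum_subset (Finset.subset_univ _) fun u _ hu => hF u fun h =>
    hu (Finset.mem_image.2 ⟨⟨u, h⟩, Finset.mem_univ _, rfl⟩)).symm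

variable [hp : Fact p.Prime]

theorem PS_iff (hZ : Z ≤ center G) (hZV : Z ≤ V) (hVU : V ≤ U) (hn : U ≤ normalizer (V : Set G)) (hi : ¬ p ∣ V.relIndex U)
    {χ : U → ℂ} (hχ : IsIrrCharacter U χ) {ξ : V → ℂ} (hξ : IsIrrCharacter V ξ) (h : Over (inclusion hVU) χ ξ) :
    ξ ∈ PS p V Z l ↔ χ ∈ PS p U Z l := by
  rw [mem_PS, mem_PS]
  refine and_congr ?_ ?_
  · obtain ⟨θ, hθ, rfl, h1⟩ := exists_desc _ hχ hξ h
    have : (inclusion hVU).range.Normal := by
      rw [inclusion_range]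
      exact (normal_subgroupOf_iff_le_normalizer hVU).2 hn
    obtain ⟨⟨k, h2⟩, h3⟩ := charDegree_dvd_of_over _ hχ hθ h1
    rw [h2, Nat.mul_div_cancel_left _ (charDegree_pos hθ), inclusion_range] at h3
    rw [PI, PI, deg_comp, h2, nd_mul]
    exact ⟨fun h => ⟨hχ, h.2, nd_of_dvd hi h3⟩, fun h => ⟨hξ, h.2.1⟩⟩
  · have k : ∀ z : V, (z : G) ∈ Z → ξ z * χ 1 = χ (inclusion hVU z) * ξ 1 := fun z hz =>
      cen_of_over hχ hξ h (mem_center_iff.2 fun v => Subtype.ext (mem_center_iff.1 (hZ hz) v))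
        (mem_center_iff.2 fun v => Subtype.ext (mem_center_iff.1 (hZ hz) v))
    refine ⟨fun ho z hz => mul_right_cancel₀ (isIrr_apply_one_ne_zero hξ) ?_,
      fun ho z hz => mul_right_cancel₀ (isIrr_apply_one_ne_zero hχ) ?_⟩
    · refine (k ⟨z, hZV hz⟩ hz).symm.trans ?_
      rw [ho _ hz]
      exact mul_right_comm _ _ _
    · rw [k z hz, ho _ hz]
      exact mul_right_comm _ _ _

theorem rho_up (hZ : Z ≤ center G) (hZV : Z ≤ V) (hVU : V ≤ U) (hn : U ≤ normalizer (V : Set G)) (hi : ¬ p ∣ V.relIndex U)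
    (g : G) : rho p U Z l g = V.relIndex U * rho p V Z l g := by
  classical
  by_cases hg : g ∈ U
  swap
  · rw [rho_not hg, rho_not fun h => hg (hVU h), mul_zero]
  have := Fintype.ofFinite U
  have := Fintype.ofFinite V
  have := finite_irr (G := V)
  have := Fintype.ofFinite (IrrCharacter V)
  let F : U → ℂ := fun u => rho p U Z l u - V.relIndex U * rho p V Z l u
  have hF : IsClassFunction U F := fun u x => by
    simp only [F, coe_mul, coe_inv, rho_conj hZ (hn x.2), rho_conj hZ (le_normalizer x.2)]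
  refine sub_eq_zero.1 (congrFun (classFunction_eq_zero hF fun χ hχ => ?_) ⟨g, hg⟩)
  have h1 : classInner (fun u : U => rho p U Z l u) χ = if χ ∈ PS p U Z l then χ 1 else 0 := by
    have e : (fun u : U => rho p U Z l u) = ∑ ξ ∈ PS p U Z l, ξ 1 • ξ := funext fun u => by
      rw [rho_mem, Finset.sum_apply]
      rfl
    rw [e, classInner_sum_left, ← Finset.sum_ite_eq' (PS p U Z l) χ fun ξ => ξ 1]
    exact Finset.sum_congr rfl fun ξ hξ => by
      rw [classInner_smul_left, classInner_irr (mem_PS.1 hξ).1.1 hχ, mul_ite, mul_one, mul_zero]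
  have h2 : classInner (fun u : U => V.relIndex U * rho p V Z l u) χ =
      ∑ ξ ∈ PS p V Z l, ξ 1 * classInner ξ (χ ∘ inclusion hVU) := by
    have e : (Nat.card U : ℂ) = V.relIndex U * Nat.card V := by
      rw [← (V.subgroupOf U).index_mul_card, Nat.card_congr (subgroupOfEquivOfLe hVU).toEquiv, Nat.cast_mul]
      rfl
    have e0 : (V.relIndex U : ℂ) ≠ 0 := left_ne_zero_of_mul (e ▸ card_ne_zero_complex)
    rw [classInner_def, sum_ext hVU _ fun u hu => by rw [rho_not hu, mul_zero, zero_mul], e]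
    simp only [coe_inclusion, rho_mem, classInner_def, Finset.mul_sum, Finset.sum_mul, Function.comp]
    rw [Finset.sum_comm]
    refine Finset.sum_congr rfl fun ξ _ => Finset.sum_congr rfl fun v _ => ?_
    field_simp
  have h3 : ∀ ξ : IrrCharacter V, classInner (ξ : V → ℂ) (χ ∘ inclusion hVU) = classInner (χ ∘ inclusion hVU) ξ := fun ξ => by
    obtain ⟨k, hk⟩ := classInner_isNat (isCharacter_comp (inclusion hVU) (isIrr_isCharacter hχ)) (isIrr_isCharacter ξ.2)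
    rw [← classInner_conj_symm, hk, Complex.conj_natCast]
  have h4 : χ 1 = ∑ ξ : IrrCharacter V, (ξ : V → ℂ) 1 * classInner (ξ : V → ℂ) (χ ∘ inclusion hVU) := by
    have e := congrFun (classFunction_eq_sum (isCharacter_isClassFunction
      (isCharacter_comp (inclusion hVU) (isIrr_isCharacter hχ)))) 1
    rw [Function.comp, map_one, Finset.sum_apply] at e
    exact e.trans (Finset.sum_congr rfl fun ξ _ => by rw [h3, mul_comm]; rfl)
  have h5 : ∑ ξ ∈ PS p V Z l, ξ 1 * classInner ξ (χ ∘ inclusion hVU) = ∑ ξ : IrrCharacter V,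
      if (ξ : V → ℂ) ∈ PS p V Z l then (ξ : V → ℂ) 1 * classInner (ξ : V → ℂ) (χ ∘ inclusion hVU) else 0 := by
    rw [← Finset.sum_filter]
    exact (Finset.sum_bij (fun ξ _ => ξ.1) (fun ξ h => (Finset.mem_filter.1 h).2) (fun _ _ _ _ => Subtype.ext)
      (fun ξ h => ⟨⟨ξ, (mem_PS.1 h).1.1⟩, Finset.mem_filter.2 ⟨Finset.mem_univ _, h⟩, rfl⟩) fun _ _ => rfl).symm
  have h6 : ∀ ξ : IrrCharacter V, classInner (ξ : V → ℂ) (χ ∘ inclusion hVU) = 0 ∨
      ((ξ : V → ℂ) ∈ PS p V Z l ↔ χ ∈ PS p U Z l) := fun ξ => or_iff_not_imp_left.2 fun h =>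
    PS_iff hZ hZV hVU hn hi hχ ξ.2 ((over_iff _ _ _).2 (h3 ξ ▸ h))
  refine (classInner_sub_left _ _ _).trans (sub_eq_zero.2 ?_)
  rw [h1, h2, h5]
  split_ifs with h
  · exact h4.trans (Finset.sum_congr rfl fun ξ _ => (h6 ξ).elim (fun e => by simp [e]) fun e => (if_pos (e.2 h)).symm)
  · exact (Finset.sum_eq_zero fun ξ _ => (h6 ξ).elim (fun e => by simp [e]) fun e => if_neg fun e' => h (e.1 e')).symm

omit hp in
theorem SS_left (x y : G) {u : G} (hu : u ∈ V) : SS p V Z l (u * x) y = SS p V Z l x y := by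
  have := Fintype.ofFinite V
  rw [SS_def, SS_def]
  exact congrArg _ (Fintype.sum_equiv (Equiv.mulRight (⟨u, hu⟩ : V)) _ _ fun w => by simp only [mul_assoc, _root_.mul_inv_rev, _root_.Equiv.coe_mulRight, _root_.Subgroup.coe_mul])

omit hp in
theorem SS_right (x y : G) {u : G} (hu : u ∈ V) : SS p V Z l x (u * y) = SS p V Z l x y := by
  have := Fintype.ofFinite V
  rw [SS_def, SS_def]
  exact congrArg _ (Finset.sum_congr rfl fun _ _ =>
    Fintype.sum_equiv (Equiv.mulRight (⟨u, hu⟩ : V)) _ _ fun w => by simp only [mul_assoc, _root_.mul_inv_rev, _root_.Equiv.coe_mulRight, _root_.Subgroup.coe_mul])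

omit hp [Finite G] in
theorem avg [Fintype U] [Fintype U'] (h : U' ≤ U) (hU : ∀ u ∈ U, ∃ v ∈ V, ∃ x ∈ U', u = v * x) {F : G → ℂ}
    (hF : ∀ v ∈ V, ∀ x, F (v * x) = F x) : Nat.card U * ∑ x : U', F x = Nat.card U' * ∑ u : U, F u := by
  have h1 : ∀ u : U, ∑ x : U', F (u * x) = ∑ x : U', F x := fun u => by
    obtain ⟨v, hv, y, hy, e⟩ := hU u u.2
    exact Fintype.sum_equiv (Equiv.mulLeft (⟨y, hy⟩ : U')) _ _ fun x => by rw [e, mul_assoc, hF v hv]; rfl
  have h2 : ∀ x : U', ∑ u : U, F (u * x) = ∑ u : U, F u := fun x =>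
    Fintype.sum_equiv (Equiv.mulRight (⟨x, h x.2⟩ : U)) _ _ fun _ => rfl
  have h3 : ∑ u : U, ∑ x : U', F (u * x) = ∑ x : U', ∑ u : U, F (u * x) := Finset.sum_comm
  simpa only [h1, h2, Finset.sum_const, Finset.card_univ, nsmul_eq_mul, Nat.card_eq_fintype_card] using h3

/-- **the count from the traces** -/
theorem sum_SS [Fintype U'] (hZ : Z ≤ center G) (hZV : Z ≤ V) (hVU : V ≤ U) (hn : U ≤ normalizer (V : Set G))
    (hi : ¬ p ∣ V.relIndex U) (h : U' ≤ U) (hU : ∀ u ∈ U, ∃ v ∈ V, ∃ x ∈ U', u = v * x) :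
    V.relIndex U * ∑ x : U', ∑ y : U', SS p V Z l x y = (Nat.card U' : ℂ) ^ 2 * kk p U Z l := by
  have := Fintype.ofFinite U
  have := Fintype.ofFinite V
  have h1 : ∑ x : U, ∑ y : U, SS p V Z l x y = ∑ x : U, ∑ y : U, rho p V Z l (x * y * x⁻¹ * y⁻¹) := by
    have e : ∀ u v : V, ∑ x : U, ∑ y : U, rho p V Z l ((u : G) * x * ((v : G) * y) * ((u : G) * x)⁻¹ * ((v : G) * y)⁻¹) =
        ∑ x : U, ∑ y : U, rho p V Z l (x * y * x⁻¹ * y⁻¹) := fun u v =>
      Fintype.sum_equiv (Equiv.mulLeft (inclusion hVU u)) _ _ fun x =>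
        Fintype.sum_equiv (Equiv.mulLeft (inclusion hVU v)) _ _ fun y => rfl
    simp only [SS_def, ← Finset.mul_sum]
    rw [Finset.sum_congr rfl fun x _ => Finset.sum_comm, Finset.sum_comm,
      Finset.sum_congr rfl fun u _ => (Finset.sum_congr rfl fun x _ => Finset.sum_comm).trans Finset.sum_comm]
    simp only [e, Finset.sum_const, Finset.card_univ, nsmul_eq_mul, ← Nat.card_eq_fintype_card]
    have h0 : (Nat.card V : ℂ) ≠ 0 := card_ne_zero_complex
    field_simp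
  have h2 := avg h hU (F := fun x => ∑ y : U', SS p V Z l x y) fun v hv x => by simp only [SS_left _ _ hv]
  have h3 := avg h hU (F := fun y => ∑ x : U, SS p V Z l x y) fun v hv y => by simp only [SS_right _ _ hv]
  rw [Finset.sum_comm, Finset.sum_comm (s := Finset.univ (α := U)) (t := Finset.univ (α := U)), h1] at h3
  have h4 := rho_self (p := p) (U := U) (Z := Z) (l := l)
  simp only [rho_up hZ hZV hVU hn hi, ← Finset.mul_sum] at h4
  refine mul_left_cancel₀ (pow_ne_zero 2 (card_ne_zero_complex (G := U))) ?_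
  linear_combination (V.relIndex U * Nat.card U : ℂ) * h2 + (V.relIndex U * Nat.card U' : ℂ) * h3 +
    (Nat.card U' : ℂ) ^ 2 * h4

omit hp [Finite G] in
theorem comm_eq (x y u v : G) : u * x * (v * y) * (u * x)⁻¹ * (v * y)⁻¹ =
    u * (x * v * x⁻¹) * (x * y * x⁻¹ * y⁻¹) * (y * u * y⁻¹)⁻¹ * v⁻¹ := by group

omit hp in
theorem SS_zero {x y : G} (hx : x ∈ normalizer (V : Set G)) (hy : y ∈ normalizer (V : Set G))
    (h : x * y * x⁻¹ * y⁻¹ ∉ V) : SS p V Z l x y = 0 := by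
  have := Fintype.ofFinite V
  rw [SS_def, Finset.sum_eq_zero fun u _ => Finset.sum_eq_zero fun v _ => rho_not fun e => h ?_, mul_zero]
  rwa [comm_eq, mul_mem_cancel_right (inv_mem v.2),
    mul_mem_cancel_right (inv_mem ((mem_normalizer_iff.1 hy _).1 u.2)),
    mul_mem_cancel_left (mul_mem u.2 ((mem_normalizer_iff.1 hx _).1 v.2))] at e

omit hp in
theorem SS_om {x y : G} (hx : x ∈ normalizer (V : Set G)) (hy : y ∈ normalizer (V : Set G))
    (h : x * y * x⁻¹ * y⁻¹ ∈ V) : SS p V Z l x y = ∑ ξ ∈ PS p V Z l, Om ξ (cj V hx) (cj V hy) ⟨_, h⟩ := by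
  have := Fintype.ofFinite V
  have e : ∀ u v : V, rho p V Z l (u * x * (v * y) * (u * x)⁻¹ * (v * y)⁻¹) =
      ∑ ξ ∈ PS p V Z l, ξ 1 * ξ (u * cj V hx v * ⟨_, h⟩ * (cj V hy u)⁻¹ * v⁻¹) := fun u v => by
    rw [comm_eq, ← rho_mem]
    rfl
  simp only [SS_def, e, om_def, Finset.mul_sum]
  rw [Finset.sum_congr rfl fun x _ => Finset.sum_comm, Finset.sum_comm]
  exact Finset.sum_congr rfl fun _ _ => Finset.sum_congr rfl fun _ _ => Finset.sum_congr rfl fun _ _ => by ring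

omit hp in
/-- the trace of a generating pair -/
theorem SS_gen {x y : G} (hH : H ≤ V ⊔ _root_.Subgroup.closure {x, y}) (hx : x ∈ H) (hy : y ∈ H) (hn : H ≤ normalizer (V : Set G))
    (h : x * y * x⁻¹ * y⁻¹ ∈ V) :
    SS p V Z l x y = ∑ ξ ∈ IS p V Z l H, Om ξ (cj V (hn hx)) (cj V (hn hy)) ⟨_, h⟩ := by
  classical
  rw [SS_om (hn hx) (hn hy) h]
  refine (Finset.sum_subset (fun ξ hξ => mem_PS.2 (mem_IS.1 hξ).1) fun ξ hξ h0 => ?_).symm
  have hi := (mem_PS.1 hξ).1.1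
  by_cases h1 : ∀ u, ξ (cj V (hn hx) u) = ξ u
  swap
  · exact om_zero_left hi _ _ h1 _
  by_cases h2 : ∀ u, ξ (cj V (hn hy) u) = ξ u
  swap
  · exact om_zero_right hi _ _ h2 _
  let S : Subgroup G :=
    { carrier := {g | ∃ hg : g ∈ normalizer (V : Set G), ∀ u, ξ (cj V hg u) = ξ u}
      one_mem' := ⟨one_mem _, fun u => congrArg ξ (Subtype.ext (by simp))⟩
      mul_mem' := fun {a b} ⟨ha, h3⟩ ⟨hb, h4⟩ => ⟨mul_mem ha hb, fun u =>
        (congrArg ξ (Subtype.ext (by simp only [mul_assoc, _root_.Subgroup.normalizerMonoidHom_apply_apply_coe, _root_.mul_inv_rev]))).trans ((h3 (cj V hb u)).trans (h4 u))⟩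
      inv_mem' := fun {a} ⟨ha, h3⟩ => ⟨inv_mem ha, fun u => by
        rw [← h3]
        exact congrArg ξ (Subtype.ext (by simp only [mul_assoc, _root_.Subgroup.normalizerMonoidHom_apply_apply_coe, _root_.inv_inv, _root_.mul_inv_cancel_left, _root_.mul_inv_cancel, _root_.mul_one]))⟩ }
  have h3 : H ≤ S := hH.trans (sup_le (fun v hv => ⟨le_normalizer hv, fun u => isIrr_isClassFunction hi u ⟨v, hv⟩⟩)
    ((closure_le _).2 (Set.pair_subset ⟨_, h1⟩ ⟨_, h2⟩)))
  exact absurd (mem_IS.2 ⟨mem_PS.1 hξ, fun g hg v v' e => by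
    obtain ⟨h4, h5⟩ := h3 hg
    rw [← h5 v]
    exact congrArg ξ (Subtype.ext e)⟩) h0

omit hp [Finite G] in
open Classical in
theorem moeb [Fintype G] (d : G → G → ℂ) (h : ∀ U, V ≤ U → U < H → ∑ x : U, ∑ y : U, d x y = 0) (hV : V ≤ H) :
    ∑ x : H, ∑ y : H, d x y = ∑ q : G × G with V ⊔ _root_.Subgroup.closure {q.1, q.2} = H, d q.1 q.2 := by
  have := Fintype.ofFinite (Subgroup G)
  let g : Subgroup G → ℂ := fun U => ∑ q : G × G with V ⊔ _root_.Subgroup.closure {q.1, q.2} = U, d q.1 q.2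
  have h1 : ∀ U, V ≤ U → ∑ x : U, ∑ y : U, d x y = g U + ∑ W with W < U, g W := fun U hU => by
    have e1 : ∑ x : U, ∑ y : U, d x y = ∑ q : G × G with V ⊔ _root_.Subgroup.closure {q.1, q.2} ≤ U, d q.1 q.2 := by
      rw [← Fintype.sum_prod_type']
      refine Finset.sum_bij (fun q _ => ((q.1 : G), (q.2 : G))) (fun q _ => Finset.mem_filter.2 ⟨Finset.mem_univ _,
        sup_le hU ((closure_le _).2 (Set.pair_subset q.1.2 q.2.2))⟩) (fun _ _ _ _ e => Prod.ext
          (Subtype.ext (congrArg Prod.fst e)) (Subtype.ext (congrArg Prod.snd e))) (fun q hq => ?_) fun _ _ => rfl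
      have e := (closure_le _).1 (le_sup_right.trans (Finset.mem_filter.1 hq).2)
      exact ⟨(⟨q.1, e (by simp)⟩, ⟨q.2, e (by simp)⟩), Finset.mem_univ _, rfl⟩
    rw [e1, ← Finset.sum_fiberwise_of_maps_to (t := insert U (Finset.univ.filter (· < U)))
      (g := fun q : G × G => V ⊔ _root_.Subgroup.closure {q.1, q.2}) fun q hq => by
        simpa only [_root_.Finset.mem_insert, _root_.Finset.mem_filter, _root_.Finset.mem_univ, _root_.true_and] using (Finset.mem_filter.1 hq).2.eq_or_lt, Finset.sum_insert (by simp)]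
    have e2 : ∀ W ≤ U, ∑ q ∈ Finset.univ.filter (fun q : G × G => V ⊔ _root_.Subgroup.closure {q.1, q.2} ≤ U) with
        V ⊔ _root_.Subgroup.closure {q.1, q.2} = W, d q.1 q.2 = g W := fun W hW => by
      rw [Finset.filter_filter]
      exact Finset.sum_congr (Finset.filter_congr fun q _ => ⟨fun e => e.2, fun e => ⟨e ▸ hW, e⟩⟩) fun _ _ => rfl
    rw [e2 U le_rfl, Finset.sum_congr rfl fun W hW => e2 W (Finset.mem_filter.1 hW).2.le]
  have h2 : ∀ U, U < H → g U = 0 := fun U => by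
    induction U using WellFoundedLT.induction with
    | ind U ih =>
      intro hU
      by_cases hVU : V ≤ U
      · have e := h1 U hVU
        rwa [h U hVU hU, Finset.sum_eq_zero fun W hW => ih W (Finset.mem_filter.1 hW).2
          ((Finset.mem_filter.1 hW).2.trans hU), add_zero, eq_comm] at e
      · exact Finset.sum_eq_zero fun q hq => absurd ((Finset.mem_filter.1 hq).2 ▸ le_sup_left) hVU
  rw [h1 H hV, Finset.sum_eq_zero fun W hW => h2 W (Finset.mem_filter.1 hW).2, add_zero]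

variable (p) in
/-- the setting: `R` is normal of `p'`-index, `H` is a supplement which contains the normaliser of a Sylow subgroup -/
structure St0 (Z R H : Subgroup G) : Prop where
  cen : Z ≤ center G
  ih : IH p Z.index
  nrm : R.Normal
  le : Z ≤ R
  ind : ¬ p ∣ R.index
  sup : ∀ g, ∃ r ∈ R, ∃ h ∈ H, g = r * h
  syl : ∃ P : Sylow p G, normalizer ((P : Subgroup G) : Set G) ≤ H

omit hp [Finite G] in
theorem St0.leH (s : St0 p Z R H) : Z ≤ H :=
  s.syl.elim fun _ h => (s.cen.trans (center_le_normalizer _)).trans h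

omit hp [Finite G] in
theorem St0.nR (s : St0 p Z R H) : H ≤ normalizer (R : Set G) :=
  (normalizer_eq_top_iff.2 s.nrm).symm ▸ le_top

omit hp [Finite G] in
theorem St0.nH (s : St0 p Z R H) : H ≤ normalizer ((R ⊓ H : Subgroup G) : Set G) := fun _ hh =>
  mem_normalizer_iff.2 fun x => and_congr (mem_normalizer_iff.1 (s.nR hh) x) (mem_normalizer_iff.1 (le_normalizer hh) x)

open Classical in
/-- **only the generating pairs matter** -/
theorem kk_sub [Fintype G] (s : St0 p Z R H) (l : G → ℂ) :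
    R.index * ∑ q : G × G with R ⊓ H ⊔ _root_.Subgroup.closure {q.1, q.2} = H, (SS p R Z l q.1 q.2 - SS p (R ⊓ H) Z l q.1 q.2) =
      (Nat.card H : ℂ) ^ 2 * (kk p ⊤ Z l - kk p H Z l) := by
  have := s.nrm
  have key : ∀ U, R ⊓ H ≤ U → U ≤ H → R.relIndex U * ∑ x : U, ∑ y : U, (SS p R Z l x y - SS p (R ⊓ H) Z l x y) =
      (Nat.card U : ℂ) ^ 2 * (kk p (R ⊔ U) Z l - kk p U Z l) := fun U h1 h2 => by
    have e0 : ¬ p ∣ R.relIndex U := nd_of_dvd s.ind (relIndex_dvd_index_of_normal R U)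
    have e1 : (R ⊓ H).relIndex U = R.relIndex U := by
      rw [← inf_relIndex_right, inf_assoc, inf_eq_right.2 h2, inf_relIndex_right]
    have e2 := sum_SS (p := p) (l := l) (V := R) (U := R ⊔ U) (U' := U) s.cen s.le le_sup_left
      ((normalizer_eq_top_iff.2 s.nrm).symm ▸ le_top) (by rwa [relIndex_sup_left]) le_sup_right fun u hu => by
        obtain ⟨v, hv, x, hx, e⟩ := mem_sup_of_normal_left.1 hu
        exact ⟨v, hv, x, hx, e.symm⟩
    have e3 := sum_SS (p := p) (l := l) (V := R ⊓ H) (U := U) (U' := U) s.cen (le_inf s.le s.leH) h1 (h2.trans s.nH)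
      (e1 ▸ e0) le_rfl fun u hu => ⟨1, one_mem _, u, hu, (one_mul _).symm⟩
    rw [relIndex_sup_left] at e2
    rw [e1] at e3
    simp only [Finset.sum_sub_distrib, mul_sub, e2, e3]
  have e1 : R ⊔ H = ⊤ := eq_top_iff.2 fun g _ => by
    obtain ⟨r, hr, h, hh, rfl⟩ := s.sup g
    exact mul_mem_sup hr hh
  rw [← moeb (fun x y => SS p R Z l x y - SS p (R ⊓ H) Z l x y) (fun U h1 h2 => ?_) inf_le_right, ← relIndex_top_right,
    ← e1, relIndex_sup_left, key H inf_le_right le_rfl]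
  obtain ⟨P, hP⟩ := s.syl
  have e2 : (R ⊔ U) ⊓ H ≤ U := fun g hg => by
    obtain ⟨v, hv, x, hx, rfl⟩ := mem_sup_of_normal_left.1 hg.1
    exact mul_mem (h1 ⟨hv, (mul_mem_cancel_right (h2.le hx)).1 hg.2⟩) hx
  have e3 : (P : Subgroup G) ≤ R := fun g hg => (P.2 ⟨g, hg⟩).elim fun k hk => C.mem_of_p s.ind (congrArg Subtype.val hk)
  have e4 := MO.H.ih_eq s.ih s.cen ((le_inf s.le s.leH).trans h1) (H := R ⊔ U)
    (fun e => h2.not_ge (by rwa [e, top_inf_eq] at e2)) le_sup_right (e3.trans le_sup_left) P.2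
    (nd_of_dvd P.not_dvd_index (relIndex_dvd_index_of_le (e3.trans le_sup_left)))
    ((le_inf inf_le_right (inf_le_left.trans hP)).trans e2) l
  have e5 := key U h1 h2.le
  rw [e4, sub_self, mul_zero] at e5
  exact (mul_eq_zero.1 e5).resolve_left (Nat.cast_ne_zero.2 index_ne_zero_of_finite)

/-- it is enough to compare the traces of the generating pairs which commute modulo `R` -/
theorem kk_of_pairs (s : St0 p Z R H) (l : G → ℂ) (h : ∀ x ∈ H, ∀ y ∈ H, R ⊓ H ⊔ _root_.Subgroup.closure {x, y} = H →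
    x * y * x⁻¹ * y⁻¹ ∈ R → SS p R Z l x y = SS p (R ⊓ H) Z l x y) : kk p ⊤ Z l = kk p H Z l := by
  classical
  have := Fintype.ofFinite G
  have e := kk_sub s l
  rw [Finset.sum_eq_zero fun q hq => ?_, mul_zero, eq_comm, mul_eq_zero, sub_eq_zero] at e
  · exact_mod_cast e.resolve_left (pow_ne_zero 2 card_ne_zero_complex)
  have h1 := (Finset.mem_filter.1 hq).2
  have h2 := (closure_le _).1 (le_sup_right.trans h1.le)
  have hx : q.1 ∈ H := h2 (by simp)
  have hy : q.2 ∈ H := h2 (by simp)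
  by_cases h3 : q.1 * q.2 * q.1⁻¹ * q.2⁻¹ ∈ R
  · exact sub_eq_zero.2 (h _ hx _ hy h1 h3)
  · rw [SS_zero (s.nR hx) (s.nR hy) h3, SS_zero (s.nH hx) (s.nH hy) fun e => h3 e.1, sub_zero]

omit hp in
theorem om_pow {D : Type} [Group D] [Finite D] {ξ : D → ℂ} (hξ : IsIrrCharacter D ξ) {α : MulAut D}
    (hα : ∀ u, ξ (α u) = ξ u) (i j : ℕ) : Om ξ (α ^ i : MulAut D) (α ^ j : MulAut D) 1 = 1 := by
  obtain ⟨W, _, Ψ, f, a, -, -, h1, h2, h3, -⟩ := exists_wit hξ hα hα (m := 1) (by simp)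
  have k : ∀ (i : ℕ) u, a ^ i * f u = f ((α ^ i) u) * a ^ i := fun i => by
    induction i with
    | zero => simp
    | succ i ih => intro u; rw [pow_succ', mul_assoc, ih, ← mul_assoc, h3, pow_succ', mul_assoc]; rfl
  rw [← om_wit h1 hξ h2 (k i) (k j) (m := 1) (s := 1) fun d => ?_, one_mul]
  rw [one_mul, one_mul, ← h2, (Commute.pow_pow_self a i j).eq]
  simp

omit hp in
theorem SS_cyc {g x y : G} (hg : g ∈ H) (hH : H ≤ V ⊔ _root_.Subgroup.closure {x, y}) (hn : H ≤ normalizer (V : Set G)) {u v : G}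
    (hu : u ∈ V) (hv : v ∈ V) {i j : ℕ} (hx : x = u * g ^ i) (hy : y = v * g ^ j) :
    SS p V Z l x y = (IS p V Z l H).card := by
  have h1 : g ^ i * g ^ j * (g ^ i)⁻¹ * (g ^ j)⁻¹ = 1 := by rw [(Commute.pow_pow_self g i j).eq]; simp
  rw [hx, hy, SS_left _ _ hu, SS_right _ _ hv, SS_gen (H := H) (hH.trans (sup_le le_sup_left ((closure_le _).2
    (Set.pair_subset (hx ▸ mul_mem_sup hu (_root_.Subgroup.subset_closure (by simp))) (hy ▸ mul_mem_sup hv (_root_.Subgroup.subset_closure (by simp)))))))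
    (pow_mem hg i) (pow_mem hg j) hn (h1 ▸ one_mem _), Finset.card_eq_sum_ones, Nat.cast_sum]
  refine Finset.sum_congr rfl fun ξ hξ => ?_
  simp only [Nat.cast_one, ← om_pow (mem_IS.1 hξ).1.1.1 (α := cj V (hn hg)) (fun w => (mem_IS.1 hξ).2 g hg _ _ rfl) i j,
    ← map_pow, ← map_pow]
  exact congrArg _ (Subtype.ext h1)

/-- **cyclic quotients**: the numbers of invariant characters -/
theorem kk_of_cyc (s : St0 p Z R H) (l : G → ℂ) {g : G} (hg : g ∈ H) (hc : ∀ x, ∃ r ∈ R, ∃ i : ℕ, x = r * g ^ i)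
    (h : (IS p R Z l H).card = (IS p (R ⊓ H) Z l H).card) : kk p ⊤ Z l = kk p H Z l := by
  refine kk_of_pairs s l fun x hx y hy h1 _ => ?_
  obtain ⟨u, hu, i, e1⟩ := hc x
  obtain ⟨v, hv, j, e2⟩ := hc y
  rw [SS_cyc hg (h1.ge.trans (sup_le_sup_right inf_le_left _)) s.nR hu hv e1 e2,
    SS_cyc hg h1.ge s.nH ⟨hu, (mul_mem_cancel_right (pow_mem hg i)).1 (e1 ▸ hx)⟩
      ⟨hv, (mul_mem_cancel_right (pow_mem hg j)).1 (e2 ▸ hy)⟩ e1 e2, h]

end Cfsg.Agent.MO.B
end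

-- part: MO/B/Def2
section
/-!
# MO/B: notions for the proof of `StepBi` (helper76)

* `Lin U K ν` : `ν` is multiplicative on `K` and invariant under `U`;
* `AS p Λ l` : the `Λ`-invariant `p'`-characters of `In Λ` over `l`;
* `Good p Λ η` : a `p'`-power of the determinant of `η` extends to `Λ`; `Exd p Γ Λ η` : `η` extends in a group `Cf`;
* `om1`, `omT` : the commutator traces in one component and in the product.
-/

set_option autoImplicit false

namespace Cfsg.Agent.MO.B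

open Cfsg Subgroup
open Cfsg.Agent.MK (Ov In rs)
open Cfsg.Agent.MK.C (Th)

/-- `ν` is multiplicative on `K` and invariant under `U` -/
structure Lin {E : Type} [Group E] (U K : Subgroup E) (ν : E → ℂˣ) : Prop where
  mul : ∀ a ∈ K, ∀ b ∈ K, ν (a * b) = ν a * ν b
  inv : ∀ u ∈ U, ∀ a ∈ K, ν (u * a * u⁻¹) = ν a

/-- `R / Inn X` is the normal Sylow `p`-subgroup of `Γ / Inn X` -/
structure Cl (p : ℕ) {X : Type} [Group X] (Γ R : Subgroup (MulAut X)) : Prop where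
  le : R ≤ Γ
  inn : ∀ x : X, MulAut.conj x ∈ R
  nrm : ∀ α ∈ Γ, ∀ β ∈ R, α * β * α⁻¹ ∈ R
  pw : ∀ β ∈ R, ∃ (k : ℕ) (x : X), β ^ p ^ k = MulAut.conj x
  ind : ¬ p ∣ R.relIndex Γ

variable (p : ℕ) {X : Type} [Group X]

open Classical in
/-- the invariant `p'`-characters of `In Λ` over `l` -/
noncomputable def AS [Finite X] (Λ : Subgroup (MulAut X)) (l : X → ℂ) : Finset (In Λ → ℂ) :=
  (PS p (In Λ) (center X) l).filter fun η => ∀ (α : Λ) y, η (rs Λ α y) = η y

variable {p} in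
theorem mem_AS [Finite X] {Λ : Subgroup (MulAut X)} {l : X → ℂ} {η : In Λ → ℂ} : η ∈ AS p Λ l ↔
    (PI p (In Λ) η ∧ Ov (In Λ) (center X) l η) ∧ ∀ (α : Λ) y, η (rs Λ α y) = η y := by
  classical
  rw [AS, Finset.mem_filter, mem_PS]

/-- a `p'`-power of the determinant extends to `Λ` -/
def Good (Λ : Subgroup (MulAut X)) (η : In Λ → ℂ) : Prop :=
  ∃ N : ℕ, ¬ p ∣ N ∧ ∃ δ : Λ →* ℂˣ, ∀ y : In Λ, δ ⟨MulAut.conj (y : X), y.2⟩ = ODD.Red.dH η y ^ N

/-- `η` extends in a group with one component -/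
def Exd (Γ Λ : Subgroup (MulAut X)) (η : In Λ → ℂ) : Prop :=
  ∃ (A : Type) (_ : Group A) (_ : Finite A) (Z : Subgroup A) (c : Cf p Γ A Z) (m : Z →* ℂˣ) (Ψ : Λ.comap c.a → ℂ),
    IsCharacter _ Ψ ∧ ∀ (z : Z) (y : In Λ) (u : Λ.comap c.a), (u : A) = z * c.e y → Ψ u = m z * η y

variable {Λ Λ' : Subgroup (MulAut X)}

/-- the inclusion `In Λ → In Λ'` -/
def inI (h : Λ ≤ Λ') : In Λ →* In Λ' := inclusion (comap_mono h)

/-- the commutator trace in one component -/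
noncomputable def om1 (h : Λ ≤ Λ') (α β : Λ) (n : In Λ) (η : In Λ' → ℂ) : ℂ :=
  Om η (rs Λ' (inclusion h α)) (rs Λ' (inclusion h β)) (inI h n)

/-- the action of `(σ, A)` on the product -/
def acT {Z ι : Type} (h : Λ ≤ Λ') (σ : Equiv.Perm ι) (A : ι → Λ) (d : Z × (ι → In Λ')) : Z × (ι → In Λ') :=
  (d.1, fun k => rs Λ' (inclusion h (A (σ.symm k))) (d.2 (σ.symm k)))

/-- the commutator trace in the product -/
noncomputable def omT {Z ι : Type} [Group Z] [Fintype ι] (h : Λ ≤ Λ') (m : Z →* ℂˣ) (σ τ : Equiv.Perm ι) (A B : ι → Λ)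
    (z : Z) (n : ι → In Λ) (η : In Λ' → ℂ) : ℂ :=
  Om (Th m fun _ => η) (acT h σ A) (acT h τ B) (z, fun i => inI h (n i))

end Cfsg.Agent.MO.B
end

-- part: MO/B/Lin
section
/-!
# MO/B: invariant linear characters (helper77)

* `lin_ext` : an invariant linear character extends if a power of exponent prime to the index does;
* `plaq` : the product of the plaquettes;
* `rel_pow`, `exists_reps`, `index_stab`, `gen_nat` : groups with a normal Sylow subgroup modulo `M`.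
-/

set_option autoImplicit false

namespace Cfsg.Agent.MO.B

open Cfsg Subgroup

namespace Lin

variable {E : Type} [Group E] {U K : Subgroup E} {ν : E → ℂˣ} (h : Lin U K ν)

include h

theorem one : ν 1 = 1 := by
  have h1 := h.mul 1 (one_mem _) 1 (one_mem _)
  rw [mul_one] at h1
  exact (mul_eq_left.1 h1.symm)

theorem pow {a : E} (ha : a ∈ K) (n : ℕ) : ν (a ^ n) = ν a ^ n := by
  induction n with
  | zero => rw [pow_zero, pow_zero, h.one]
  | succ n ih => rw [pow_succ, pow_succ, h.mul _ (pow_mem ha n) _ ha, ih]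

theorem inv' {a : E} (ha : a ∈ K) : ν a⁻¹ = (ν a)⁻¹ := by
  rw [eq_inv_iff_mul_eq_one, ← h.mul _ (inv_mem ha) _ ha, inv_mul_cancel, h.one]

theorem prod_pow {ι : Type} (s : Finset ι) (g : E) (m : ι → ℕ) (hm : ∀ i, g ^ m i ∈ K) :
    g ^ ∑ i ∈ s, m i ∈ K ∧ ∏ i ∈ s, ν (g ^ m i) = ν (g ^ ∑ i ∈ s, m i) := by
  classical
  induction s using Finset.induction_on with
  | empty => simp [h.one]
  | insert i s hi ih =>
    rw [Finset.sum_insert hi, Finset.prod_insert hi, pow_add, h.mul _ (hm i) _ ih.1, ih.2]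
    exact ⟨mul_mem (hm i) ih.1, rfl⟩

end Lin

namespace LinAux

/-- the transfer -/
theorem pow_mul {E : Type} [Group E] {U K N : Subgroup E} (hKU : K ≤ U)
    (hN : ∀ u ∈ U, ∀ a ∈ N, u * a * u⁻¹ ∈ N) {ν : E → ℂˣ} (h : Lin U N ν) (h0 : N.relIndex K ≠ 0) {a b : E} (ha : a ∈ K)
    (hb : b ∈ K) : ν ((a * b) ^ N.relIndex K) = ν (a ^ N.relIndex K) * ν (b ^ N.relIndex K) := by
  classical
  have : (N.subgroupOf K).FiniteIndex := ⟨h0⟩
  let φ : N.subgroupOf K →* ℂˣ := MonoidHom.mk' (fun x => ν x) fun x y => h.mul _ x.2 _ y.2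
  have key : ∀ g : K, MonoidHom.transfer φ g = ν (g ^ N.relIndex K) := fun g => by
    have : Fintype (Quotient (MulAction.orbitRel (zpowers g) (K ⧸ N.subgroupOf K))) := Fintype.ofFinite _
    have h1 : ∀ q : Quotient (MulAction.orbitRel (zpowers g) (K ⧸ N.subgroupOf K)),
        ((q.out.out : K) : E)⁻¹ * (g : E) ^ Function.minimalPeriod (g • ·) q.out * (q.out.out : K) ∈ N := fun q =>
      QuotientGroup.out_conj_pow_minimalPeriod_mem _ g q.out
    have h2 : ∀ q : Quotient (MulAction.orbitRel (zpowers g) (K ⧸ N.subgroupOf K)),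
        (g : E) ^ Function.minimalPeriod (g • ·) q.out ∈ N := fun q => by
      have h3 := hN _ (hKU (q.out.out : K).2) _ (h1 q)
      rwa [← mul_assoc, ← mul_assoc, mul_inv_cancel, one_mul, mul_inv_cancel_right] at h3
    rw [MonoidHom.transfer_eq_prod_quotient_orbitRel_zpowers_quot, relIndex, index_eq_sum_minimalPeriod _ g,
      ← (h.prod_pow _ _ _ h2).2]
    refine Finset.prod_congr rfl fun q _ => ?_
    have h3 := h.inv _ (inv_mem (hKU (q.out.out : K).2)) _ (h2 q)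
    rw [inv_inv] at h3
    exact h3
  have h1 := map_mul (MonoidHom.transfer φ) ⟨a, ha⟩ ⟨b, hb⟩
  rwa [key, key, key] at h1

variable {E : Type} [Group E] {K : Subgroup E} [hK : K.Normal] {ν : E → ℂˣ}

theorem comm_mem {α β : E} (hc : α * β * α⁻¹ * β⁻¹ ∈ K) (i j : ℤ) : α ^ i * β ^ j * (α ^ i)⁻¹ * (β ^ j)⁻¹ ∈ K := by
  have h1 : ∀ x y : E, x * y * x⁻¹ * y⁻¹ ∈ K ↔ Commute (QuotientGroup.mk' K x) (QuotientGroup.mk' K y) := fun x y => by
    rw [← commutatorElement_eq_one_iff_commute, ← map_commutatorElement, QuotientGroup.mk'_apply,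
      QuotientGroup.eq_one_iff, commutatorElement_def]
  rw [h1, map_zpow, map_zpow]
  exact ((h1 _ _).1 hc).zpow_zpow i j

theorem comm_left (h : Lin ⊤ K ν) {α β : E} (hc : α * β * α⁻¹ * β⁻¹ ∈ K) (i : ℤ) :
    ν (α ^ i * β * (α ^ i)⁻¹ * β⁻¹) = ν (α * β * α⁻¹ * β⁻¹) ^ i := by
  have h1 : ∀ i : ℤ, ν (α ^ (i + 1) * β * (α ^ (i + 1))⁻¹ * β⁻¹) =
      ν (α ^ i * β * (α ^ i)⁻¹ * β⁻¹) * ν (α * β * α⁻¹ * β⁻¹) := fun i => by
    have h2 := comm_mem hc i 1
    rw [zpow_one] at h2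
    rw [← h.inv α (mem_top _) _ h2, ← h.mul _ (hK.conj_mem _ h2 α) _ hc]
    congr 1
    group
  induction i using Int.induction_on with
  | zero => simp only [h.one, _root_.zpow_ofNat, _root_.pow_zero, _root_.one_mul, _root_.inv_one, _root_.mul_one, _root_.mul_inv_cancel]
  | succ i ih => rw [h1, ih, zpow_add_one]
  | pred i ih =>
    have h2 := h1 (-(i : ℤ) - 1)
    rw [sub_add_cancel, ih] at h2
    rw [zpow_sub_one (ν _), h2, mul_inv_cancel_right]

theorem comm_val (h : Lin ⊤ K ν) {α β : E} (hc : α * β * α⁻¹ * β⁻¹ ∈ K) (i j : ℤ) :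
    ν (β ^ j * α ^ i * (β ^ j)⁻¹ * (α ^ i)⁻¹) = ν (α * β * α⁻¹ * β⁻¹) ^ (-(i * j)) := by
  have h1 := comm_mem hc i 1
  rw [zpow_one] at h1
  have h2 : β * α ^ i * β⁻¹ * (α ^ i)⁻¹ = (α ^ i * β * (α ^ i)⁻¹ * β⁻¹)⁻¹ := by group
  rw [comm_left h (h2 ▸ inv_mem h1), h2, h.inv' h1, comm_left h hc, inv_zpow', ← zpow_mul, mul_neg]

theorem phi_mul (h : Lin ⊤ K ν) {α β : E} (hc : α * β * α⁻¹ * β⁻¹ ∈ K) {u v : E} {a b : ℤ × ℤ}
    (hu : u * (α ^ a.1 * β ^ a.2)⁻¹ ∈ K) (hv : v * (α ^ b.1 * β ^ b.2)⁻¹ ∈ K) :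
    u * v * (α ^ (a + b).1 * β ^ (a + b).2)⁻¹ ∈ K ∧ ν (u * v * (α ^ (a + b).1 * β ^ (a + b).2)⁻¹) =
      ν (u * (α ^ a.1 * β ^ a.2)⁻¹) * ν (v * (α ^ b.1 * β ^ b.2)⁻¹) * ν (α * β * α⁻¹ * β⁻¹) ^ (-(b.1 * a.2)) := by
  have h1 : β ^ a.2 * α ^ b.1 * (β ^ a.2)⁻¹ * (α ^ b.1)⁻¹ ∈ K := by
    have h2 := inv_mem (comm_mem hc b.1 a.2)
    convert h2 using 1
    group
  have h2 : u * v * (α ^ (a + b).1 * β ^ (a + b).2)⁻¹ = u * (α ^ a.1 * β ^ a.2)⁻¹ *
      (α ^ a.1 * β ^ a.2 * (v * (α ^ b.1 * β ^ b.2)⁻¹) * (α ^ a.1 * β ^ a.2)⁻¹) *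
      (α ^ a.1 * (β ^ a.2 * α ^ b.1 * (β ^ a.2)⁻¹ * (α ^ b.1)⁻¹) * (α ^ a.1)⁻¹) := by
    rw [Prod.fst_add, Prod.snd_add]
    group
  have h3 := hK.conj_mem _ hv (α ^ a.1 * β ^ a.2)
  have h4 := hK.conj_mem _ h1 (α ^ a.1)
  rw [h2]
  refine ⟨mul_mem (mul_mem hu h3) h4, ?_⟩
  rw [h.mul _ (mul_mem hu h3) _ h4, h.mul _ hu _ h3, h.inv _ (mem_top _) _ hv, h.inv _ (mem_top _) _ h1, comm_val h hc]

theorem prod_zpow {ι : Type} (s : Finset ι) (c : ℂˣ) (f : ι → ℤ) : ∏ i ∈ s, c ^ f i = c ^ ∑ i ∈ s, f i := by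
  classical
  induction s using Finset.induction_on with
  | empty => simp
  | insert i s hi ih => rw [Finset.sum_insert hi, Finset.prod_insert hi, ih, zpow_add]

theorem alg (a b c d x y : ℂˣ) : a * b * x⁻¹ * (c * d * y⁻¹)⁻¹ = a * d⁻¹ * (b * c⁻¹) * (y * x⁻¹) := by
  simp only [mul_inv_rev, inv_inv]
  ac_rfl

theorem gen_int {Q : Type} [Group Q] {x y : Q} (hxy : Commute x y) {q : Q} (hq : q ∈ _root_.Subgroup.closure {x, y}) :
    ∃ i j : ℤ, q = x ^ i * y ^ j := by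
  induction hq using closure_induction with
  | mem a ha =>
    rcases ha with rfl | rfl
    · exact ⟨1, 0, by simp⟩
    · exact ⟨0, 1, by simp⟩
  | one => exact ⟨0, 0, by simp⟩
  | mul a b _ _ ha hb =>
    obtain ⟨i, j, rfl⟩ := ha
    obtain ⟨i', j', rfl⟩ := hb
    exact ⟨i + i', j + j', by rw [zpow_add, zpow_add, ((hxy.zpow_zpow i' j).symm).mul_mul_mul_comm]⟩
  | inv a _ ha =>
    obtain ⟨i, j, rfl⟩ := ha
    exact ⟨-i, -j, by rw [mul_inv_rev, zpow_neg, zpow_neg, ((hxy.zpow_zpow i j).inv_inv).eq]⟩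

end LinAux

open LinAux

theorem lin_ext {E : Type} [Group E] {U K N : Subgroup E} (hNK : N ≤ K) (hKU : K ≤ U)
    (hN : ∀ u ∈ U, ∀ a ∈ N, u * a * u⁻¹ ∈ N) {ν Δ : E → ℂˣ} (h : Lin U N ν) (hΔ : Lin U K Δ) {n : ℕ}
    (hn : ∀ a ∈ N, Δ a = ν a ^ n) (h0 : N.relIndex K ≠ 0) (hc : (N.relIndex K).Coprime n) :
    ∃ μ, Lin U K μ ∧ ∀ a ∈ N, μ a = ν a := by
  obtain ⟨t, s, e⟩ := Nat.isCoprime_iff_coprime.2 hc
  have h1 : ∀ a ∈ K, a ^ N.relIndex K ∈ N := fun a ha => by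
    have : (N.subgroupOf K).Normal := ⟨fun x hx g => hN g (hKU g.2) x hx⟩
    exact pow_index_mem (N.subgroupOf K) ⟨a, ha⟩
  have _ := hNK
  refine ⟨fun a => Δ a ^ s * ν (a ^ N.relIndex K) ^ t, ⟨fun a ha b hb => ?_, fun u hu a ha => ?_⟩, fun a ha => ?_⟩
  · rw [hΔ.mul a ha b hb, LinAux.pow_mul hKU hN h h0 ha hb, mul_zpow, mul_zpow, mul_mul_mul_comm]
  · rw [hΔ.inv u hu a ha, conj_pow, h.inv u hu _ (h1 a ha)]
  · beta_reduce
    rw [hn a ha, h.pow ha, ← zpow_natCast, ← zpow_natCast, ← zpow_mul, ← zpow_mul, ← zpow_add, add_comm, mul_comm _ t,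
      mul_comm _ s, e, zpow_one]

theorem plaq {E ι : Type} [Group E] [Fintype ι] {K : Subgroup E} [K.Normal] {ν : E → ℂˣ} (h : Lin ⊤ K ν) {α β : E}
    (hc : α * β * α⁻¹ * β⁻¹ ∈ K) (σ τ : Equiv.Perm ι) (A B : ι → E) (a b : ι → ℤ × ℤ)
    (hA : ∀ i, A i * (α ^ (a i).1 * β ^ (a i).2)⁻¹ ∈ K) (hB : ∀ i, B i * (α ^ (b i).1 * β ^ (b i).2)⁻¹ ∈ K)
    (hab : ∀ j, a (τ j) + b j = b (σ j) + a j) :
    ∏ j, ν (A (τ j) * B j * (B (σ j) * A j)⁻¹) =
      ν (α * β * α⁻¹ * β⁻¹) ^ ∑ j, ((b (σ j)).2 * (a j).1 - (a (τ j)).2 * (b j).1) := by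
  set! f : ι → ℂˣ := fun i => ν (A i * (α ^ (a i).1 * β ^ (a i).2)⁻¹)
  set! g : ι → ℂˣ := fun i => ν (B i * (α ^ (b i).1 * β ^ (b i).2)⁻¹)
  have h1 : ∀ j, ν (A (τ j) * B j * (B (σ j) * A j)⁻¹) = f (τ j) * (f j)⁻¹ * (g j * (g (σ j))⁻¹) *
      ν (α * β * α⁻¹ * β⁻¹) ^ ((b (σ j)).2 * (a j).1 - (a (τ j)).2 * (b j).1) := fun j => by
    obtain ⟨h2, h3⟩ := phi_mul h hc (hA (τ j)) (hB j)
    obtain ⟨h4, h5⟩ := phi_mul h hc (hB (σ j)) (hA j)
    rw [← hab] at h4 h5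
    have h6 := h.mul _ h2 _ (inv_mem h4)
    rw [h.inv' h4, h3, h5, mul_inv_rev (B (σ j) * A j), inv_inv, ← mul_assoc, inv_mul_cancel_right] at h6
    rw [h6, zpow_sub, mul_comm (a j).1, mul_comm (b j).1, zpow_neg, zpow_neg]
    exact alg _ _ _ _ _ _
  rw [Finset.prod_congr rfl fun j _ => h1 j, Finset.prod_mul_distrib, Finset.prod_mul_distrib, Finset.prod_mul_distrib,
    Finset.prod_mul_distrib, Finset.prod_inv_distrib, Finset.prod_inv_distrib, Equiv.prod_comp τ f, Equiv.prod_comp σ g,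
    mul_inv_cancel, mul_inv_cancel, one_mul, one_mul, prod_zpow]

variable {p : ℕ} [hp : Fact p.Prime]

theorem rel_pow {A : Type} [Group A] [Finite A] {M R : Subgroup A} (hM : ∀ r ∈ R, ∀ a ∈ M, a ∈ R → r * a * r⁻¹ ∈ M)
    (hp : ∀ g ∈ R, ∃ k : ℕ, g ^ p ^ k ∈ M) : ∃ k : ℕ, M.relIndex R = p ^ k := by
  have : (M.subgroupOf R).Normal := ⟨fun x hx g => hM g g.2 x hx x.2⟩
  refine IsPGroup.exists_card_eq (G := R ⧸ M.subgroupOf R) fun q => ?_
  obtain ⟨g, rfl⟩ := QuotientGroup.mk_surjective q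
  obtain ⟨k, hk⟩ := hp g g.2
  exact ⟨k, by rw [← QuotientGroup.mk_pow, QuotientGroup.eq_one_iff]; exact hk⟩

theorem exists_reps {A : Type} [Group A] [Finite A] {M R : Subgroup A} [M.Normal] [hR : R.Normal] (hMR : M ≤ R)
    (hp : ∀ g ∈ R, ∃ k : ℕ, g ^ p ^ k ∈ M) (hi : ¬ p ∣ R.index) {x y : A} (h : x * y * x⁻¹ * y⁻¹ ∈ R) :
    ∃ r ∈ R, ∃ s ∈ R, r * x * (s * y) * (r * x)⁻¹ * (s * y)⁻¹ ∈ M := by
  have hs := QuotientGroup.mk'_surjective M
  have : (R.map (QuotientGroup.mk' M)).Normal := hR.map _ hs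
  have h1 : IsPGroup p (R.map (QuotientGroup.mk' M)) := by
    rintro ⟨_, g, hg, rfl⟩
    obtain ⟨k, hk⟩ := hp g hg
    refine ⟨k, Subtype.ext ?_⟩
    exact (map_pow (QuotientGroup.mk' M) g _).symm.trans ((QuotientGroup.eq_one_iff _).2 hk)
  obtain ⟨k, hk⟩ := h1.exists_card_eq
  have h2 : (R.map (QuotientGroup.mk' M)).index = R.index :=
    index_map_eq _ hs (by rwa [QuotientGroup.ker_mk'])
  obtain ⟨H, hH⟩ := exists_right_complement'_of_coprime (N := R.map (QuotientGroup.mk' M)) (by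
    rw [hk, h2]
    exact Nat.Coprime.pow_left _ ((Nat.Prime.coprime_iff_not_dvd Fact.out).2 hi))
  have h3 : ∀ z : A, ∃ r ∈ R, QuotientGroup.mk' M (r * z) ∈ H := fun z => by
    obtain ⟨⟨⟨_, r, hr, rfl⟩, b⟩, e⟩ := hH.2 (QuotientGroup.mk' M z)
    refine ⟨r⁻¹, inv_mem hr, ?_⟩
    rw [map_mul, ← e, map_inv, inv_mul_cancel_left]
    exact b.2
  obtain ⟨r, hr, h4⟩ := h3 x
  obtain ⟨s, hs', h5⟩ := h3 y
  refine ⟨r, hr, s, hs', (QuotientGroup.eq_one_iff _).1 (disjoint_def.1 hH.disjoint (mem_map_of_mem _ ?_) ?_)⟩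
  · have h6 : r * x * (s * y) * (r * x)⁻¹ * (s * y)⁻¹ =
        r * (x * s * x⁻¹) * (x * y * x⁻¹ * y⁻¹) * (y * r⁻¹ * y⁻¹) * s⁻¹ := by group
    rw [h6]
    exact mul_mem (mul_mem (mul_mem (mul_mem hr (hR.conj_mem _ hs' x)) h) (hR.conj_mem _ (inv_mem hr) y)) (inv_mem hs')
  · rw [← QuotientGroup.mk'_apply, map_mul, map_mul, map_mul, map_inv, map_inv]
    exact mul_mem (mul_mem (mul_mem h4 h5) (inv_mem h4)) (inv_mem h5)

theorem index_stab {A : Type} [Group A] [Finite A] {M R S : Subgroup A} [hM : M.Normal] [R.Normal] (hMS : M ≤ S)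
    (hp : ∀ g ∈ R, ∃ k : ℕ, g ^ p ^ k ∈ M) : ∃ k : ℕ, S.index = p ^ k * (S.map (QuotientGroup.mk' R)).index := by
  obtain ⟨k, hk⟩ := rel_pow (fun r _ a ha _ => hM.conj_mem a ha r) hp
  obtain ⟨j, -, hj⟩ := (Nat.dvd_prime_pow Fact.out).1 (hk ▸ relIndex_dvd_of_le_left R hMS)
  refine ⟨j, ?_⟩
  have h1 := relIndex_mul_relIndex (S ⊓ R) S (S ⊔ R) inf_le_left le_sup_left
  have h2 := relIndex_mul_relIndex (S ⊓ R) R (S ⊔ R) inf_le_right le_sup_right
  rw [inf_relIndex_left] at h1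
  rw [inf_relIndex_right, relIndex_sup_right, ← h1, mul_comm] at h2
  rw [index_map, QuotientGroup.ker_mk', MonoidHom.range_eq_top.2 (QuotientGroup.mk'_surjective R), index_top, mul_one,
    ← hj, mul_left_cancel₀ FiniteIndex.index_ne_zero h2, relIndex_mul_index le_sup_left]

theorem gen_nat {A : Type} [Group A] [Finite A] {R : Subgroup A} [R.Normal] {x y : A} (h : x * y * x⁻¹ * y⁻¹ ∈ R)
    (hg : R ⊔ _root_.Subgroup.closure {x, y} = ⊤) (g : A) : ∃ r ∈ R, ∃ i j : ℕ, g = r * x ^ i * y ^ j := by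
  have h1 : Commute (QuotientGroup.mk' R x) (QuotientGroup.mk' R y) := by
    rw [← commutatorElement_eq_one_iff_commute, ← map_commutatorElement, QuotientGroup.mk'_apply,
      QuotientGroup.eq_one_iff]
    exact h
  have h2 : QuotientGroup.mk' R g ∈ _root_.Subgroup.closure {QuotientGroup.mk' R x, QuotientGroup.mk' R y} := by
    have h3 := mem_map_of_mem (QuotientGroup.mk' R) (hg ▸ mem_top g : g ∈ R ⊔ _root_.Subgroup.closure {x, y})
    rwa [Subgroup.map_sup, QuotientGroup.map_mk'_self, bot_sup_eq, MonoidHom.map_closure, Set.image_pair] at h3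
  obtain ⟨i, j, e⟩ := gen_int h1 h2
  obtain ⟨i', hi⟩ := mem_powers_iff_mem_zpowers.2 (zpow_mem (mem_zpowers (QuotientGroup.mk' R x)) i)
  obtain ⟨j', hj⟩ := mem_powers_iff_mem_zpowers.2 (zpow_mem (mem_zpowers (QuotientGroup.mk' R y)) j)
  refine ⟨g * (x ^ i' * y ^ j')⁻¹, (QuotientGroup.eq_one_iff _).1 ?_, i', j', by group⟩
  beta_reduce at hi hj
  rw [← QuotientGroup.mk'_apply, map_mul, map_inv, map_mul, map_pow, map_pow, hi, hj, e, mul_inv_cancel]

end Cfsg.Agent.MO.B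
end

-- part: MO/Om/Defs
section
/-!
# MO/Om: the equality `One` from traces in a regular embedding, the interface (helper89)

* `Tw D` : the group of the pairs `a = (z, α)` of a linear character and an automorphism of `D`; `a.act ξ = z * ξ ∘ α`;
* `OmT ξ a b m` : the commutator trace of `a`, `b` at `ξ` if `[a, b] = inn m`.  If `ρ` affords `ξ`,
  `P ρ(u) = a.z(u) ρ(a.α u) P`, `Q ρ(u) = b.z(u) ρ(b.α u) Q` and `[P, Q] = s ρ(m)`, then `s * OmT = 1`; it is zero if `ξ` is not fixed;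
* `PT p N N1 C ω` : the characters over `ω` on `C` whose constituents on `N` are `N1`-invariant and of `p'`-degree;
* `TT S a b m` : the sum of the traces over `S`;
* `Fr p G M Sg E π Γ` : a frame (`G ≤ Gt` with abelian quotient, `M` the local subgroup, `Sg` a group of automorphisms);
* `TrEq p G M E` : the traces of `Gt` and `M` agree; `BoxOm p` : `Fr` and `TrEq` give `One` (proved in `MO/Om/Main.lean`).
-/

set_option autoImplicit false

namespace Cfsg.Agent.MO.Om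

open Cfsg Subgroup
open Cfsg.Agent.H672

/-- a linear character and an automorphism -/
structure Tw (D : Type) [Group D] where
  z : D →* ℂˣ
  α : MulAut D

section tw

variable {D : Type} [Group D]

theorem Tw.eq {a b : Tw D} (h1 : ∀ u, a.z u = b.z u) (h2 : ∀ u, a.α u = b.α u) : a = b := by
  cases a
  cases b
  exact congrArg₂ Tw.mk (MonoidHom.ext h1) (MulEquiv.ext h2)

instance instGroupTw : Group (Tw D) where
  mul a b := ⟨b.z * a.z.comp b.α.toMonoidHom, a.α * b.α⟩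
  one := ⟨1, 1⟩
  inv a := ⟨(a.z.comp a.α⁻¹.toMonoidHom)⁻¹, a.α⁻¹⟩
  mul_assoc _ _ _ := Tw.eq (fun _ => (mul_assoc _ _ _).symm) fun _ => rfl
  one_mul _ := Tw.eq (fun _ => mul_one _) fun _ => rfl
  mul_one _ := Tw.eq (fun _ => one_mul _) fun _ => rfl
  inv_mul_cancel a := Tw.eq (fun u => by
    change a.z u * (a.z (a.α⁻¹ (a.α u)))⁻¹ = 1
    rw [MulAut.inv_apply_self, mul_inv_cancel]) fun u => MulAut.inv_apply_self D a.α u

theorem Tw.mul_z (a b : Tw D) (u : D) : (a * b).z u = b.z u * a.z (b.α u) := rfl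
theorem Tw.mul_α (a b : Tw D) : (a * b).α = a.α * b.α := rfl
theorem Tw.one_z (u : D) : (1 : Tw D).z u = 1 := rfl
theorem Tw.one_α : (1 : Tw D).α = 1 := rfl
theorem Tw.inv_z (a : Tw D) (u : D) : a⁻¹.z u = (a.z (a.α⁻¹ u))⁻¹ := rfl
theorem Tw.inv_α (a : Tw D) : a⁻¹.α = a.α⁻¹ := rfl

/-- automorphisms -/
def aut : MulAut D →* Tw D where
  toFun α := ⟨1, α⟩
  map_one' := rfl
  map_mul' _ _ := Tw.eq (fun _ => (one_mul _).symm) fun _ => rfl

/-- inner automorphisms -/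
def inn : D →* Tw D := aut.comp MulAut.conj

/-- linear characters -/
def lin (z : D →* ℂˣ) : Tw D := ⟨z, 1⟩

theorem aut_z (α : MulAut D) (u : D) : (aut α).z u = 1 := rfl
theorem aut_α (α : MulAut D) : (aut α).α = α := rfl
theorem inn_z (m u : D) : (inn m).z u = 1 := rfl
theorem inn_α (m : D) : (inn m).α = MulAut.conj m := rfl

/-- the (right) action on functions -/
def Tw.act (a : Tw D) (ξ : D → ℂ) : D → ℂ := fun u => a.z u * ξ (a.α u)

theorem Tw.act_mul (a b : Tw D) (ξ : D → ℂ) : (a * b).act ξ = b.act (a.act ξ) := funext fun u => by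
  simp only [Tw.act, Tw.mul_z, Tw.mul_α, Units.val_mul, mul_assoc, MulAut.mul_apply]

theorem Tw.act_one (ξ : D → ℂ) : (1 : Tw D).act ξ = ξ := funext fun _ => one_mul _

/-- the stabiliser of a function -/
def Fix (ξ : D → ℂ) : Subgroup (Tw D) where
  carrier := {a | a.act ξ = ξ}
  one_mem' := Tw.act_one ξ
  mul_mem' := fun {a b} ha hb => by
    change (a * b).act ξ = ξ
    rw [Tw.act_mul, ha, hb]
  inv_mem' := fun {a} ha => by
    change a⁻¹.act ξ = ξ
    conv_lhs => rw [← ha, ← Tw.act_mul, mul_inv_cancel, Tw.act_one]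

theorem mem_Fix {ξ : D → ℂ} {a : Tw D} : a ∈ Fix ξ ↔ ∀ u, a.z u * ξ (a.α u) = ξ u := funext_iff

/-- **the commutator trace of two pairs** -/
noncomputable def OmT (ξ : D → ℂ) (a b : Tw D) (m : D) : ℂ :=
  ξ 1 * ((Nat.card D : ℂ) ^ 2)⁻¹ * ∑ᶠ u, ∑ᶠ v, a.z v * ((b.z u)⁻¹ : ℂˣ) * ξ (u * a.α v * m * (b.α u)⁻¹ * v⁻¹)

/-- the sum of the traces over a set of characters -/
noncomputable def TT (S : Set (D → ℂ)) (a b : Tw D) (m : D) : ℂ := ∑ᶠ χ ∈ S, OmT χ a b m

/-- `θ` is invariant under `N1` -/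
def Inv (N N1 : Subgroup D) (θ : N → ℂ) : Prop := ∀ g ∈ N1, ∀ v v' : N, (v' : D) = g * v * g⁻¹ → θ v' = θ v

/-- the characters over `ω` on `C` with an `N1`-invariant constituent of `p'`-degree on `N` -/
def PT [Finite D] (p : ℕ) (N N1 C : Subgroup D) (ω : D → ℂ) : Set (D → ℂ) :=
  {χ | IsIrrCharacter D χ ∧ (∀ c ∈ C, χ c = ω c * χ 1) ∧ ∃ θ : N → ℂ, PI p N θ ∧ Over N.subtype χ θ ∧ Inv N N1 θ}

/-- the characters of `p'`-degree over `ω` on `C` -/
def PT0 (p : ℕ) (C : Subgroup D) (ω : D → ℂ) : Set (D → ℂ) := {χ | PI p D χ ∧ ∀ c ∈ C, χ c = ω c * χ 1}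

/-- `a'` is the restriction of `a` -/
def Rs (M : Subgroup D) (a : Tw D) (a' : Tw M) : Prop := ∀ x : M, a'.z x = a.z x ∧ (a'.α x : D) = a.α x

/-- the character of `a` is trivial on `G`, the automorphism is in `E` -/
def Adm (G : Subgroup D) (E : Set (MulAut D)) (a : Tw D) : Prop := (∀ g ∈ G, a.z g = 1) ∧ a.α ∈ E

/-- the subgroups between `G Z` and the preimage of the Sylow `p`-subgroup of `D / G Z` -/
structure Mid (p : ℕ) (G G1 : Subgroup D) : Prop where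
  le : G ⊔ center D ≤ G1
  pw : ∀ t ∈ G1, ∃ k : ℕ, t ^ p ^ k ∈ G ⊔ center D

end tw

section frame

variable (p : ℕ) {Gt : Type} [Group Gt] (G M : Subgroup Gt)

/-- the automorphism `σ` of `Gt` induces `α` -/
def Ind {X : Type} [Group X] (π : G →* X) (σ : MulAut Gt) (α : MulAut X) : Prop :=
  ∀ g g' : G, (g' : Gt) = σ g → π g' = α (π g)

/-- **a frame**; `E` is a set of representatives of `Sg` modulo the inner automorphisms of `M` -/
structure Fr (Sg : Subgroup (MulAut Gt)) (E : Set (MulAut Gt)) {X : Type} [Group X] (π : G →* X)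
    (Γ : Subgroup (MulAut X)) : Prop where
  comm : ∀ a b : Gt, a * b * a⁻¹ * b⁻¹ ∈ G
  sup : ∀ t : Gt, ∃ g ∈ G, ∃ m ∈ M, t = g * m
  cen : center Gt ≤ M
  ne : ¬ G ≤ M
  surj : Function.Surjective π
  /-- the elements which act trivially on `X` are central -/
  fai : ∀ t : Gt, Ind G π (MulAut.conj t) 1 → t ∈ center Gt
  sG : ∀ σ ∈ Sg, ∀ g ∈ G, σ g ∈ G
  sM : ∀ σ ∈ Sg, ∀ g ∈ M, σ g ∈ M
  inn : ∀ m ∈ M, MulAut.conj m ∈ Sg
  rep : ∀ σ ∈ Sg, ∃ m ∈ M, ∃ e ∈ E, σ = MulAut.conj m * e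
  /-- `Sg` is abelian modulo inner automorphisms, with a cyclic Sylow `p`-subgroup -/
  ab : ∀ σ ∈ Sg, ∀ σ' ∈ Sg, ∃ m ∈ M, σ * σ' * σ⁻¹ * σ'⁻¹ = MulAut.conj m
  cyE : ∃ φ ∈ Sg, ∀ σ ∈ Sg, ∃ (n k : ℕ) (t : Gt), ¬ p ∣ n ∧ σ ^ n = MulAut.conj t * φ ^ k
  /-- the group of diagonal automorphisms has a cyclic Sylow `p`-subgroup -/
  cyD : ∃ δ : Gt, ∀ t : Gt, ∃ n k : ℕ, ¬ p ∣ n ∧ t ^ n * (δ ^ k)⁻¹ ∈ G ⊔ center Gt
  lift : ∀ α ∈ Γ, ∃ σ ∈ Sg, ∃ (x : X) (β : MulAut X), Ind G π σ β ∧ α = MulAut.conj x * β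
  syl : ∃ Q : Sylow p G, ∀ g ∈ normalizer ((Q : Subgroup G) : Set G), (g : Gt) ∈ M

/-- **the traces agree** -/
def TrEq [Finite Gt] (E : Set (MulAut Gt)) : Prop :=
  ∀ (G1 : Subgroup Gt) (ω : Gt → ℂ) (a b : Tw Gt) (a' b' : Tw M) (m : M), Mid p G G1 → Adm G E a → Adm G E b →
    (∀ t ∈ G1, a.α t ∈ G1) → (∀ t ∈ G1, b.α t ∈ G1) → Rs M a a' → Rs M b b' → a * b * a⁻¹ * b⁻¹ = inn (m : Gt) →
    TT (PT p G G1 (center Gt) ω) a b m =
      TT (PT p (G.subgroupOf M) (G1.subgroupOf M) ((center Gt).subgroupOf M) fun x => ω x) a' b' m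

/-- the same for the characters of `p'`-degree (enough if `p` does not divide the index of `G Z`) -/
def TrEq0 (E : Set (MulAut Gt)) : Prop :=
  ∀ (ω : Gt → ℂ) (a b : Tw Gt) (a' b' : Tw M) (m : M), Adm G E a → Adm G E b → Rs M a a' → Rs M b b' →
    a * b * a⁻¹ * b⁻¹ = inn (m : Gt) →
    TT (PT0 p (center Gt) ω) a b m = TT (PT0 p ((center Gt).subgroupOf M) fun x => ω x) a' b' m

end frame

/-- **the box** -/
def BoxOm (p : ℕ) : Prop :=
  ∀ (Gt : Type) [Group Gt] [Finite Gt] (G M : Subgroup Gt) (Sg : Subgroup (MulAut Gt)) (E : Set (MulAut Gt))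
    (X : Type) [Group X] [Finite X] (π : G →* X) (Γ : Subgroup (MulAut X)),
    Fr p G M Sg E π Γ → TrEq p G M E → Sit p X Γ → MO.One p X Γ

end Cfsg.Agent.MO.Om
end

-- part: MO/Om/Bt
section
/-!
# MO/Om: the calculus of the commutator traces (helper89)

* `comm_iff` : when `[a, b] = inn m`; `omT_aut` : the traces of `MO/B/Om`;
* `omT_inn_mul`, `omT_mul_inn`, `omT_cen` : change of the representatives; `omT_nc`, `omT_zero_left`, `omT_zero_right` : zeros;
* `omT_wit` : the value from witnesses in an overgroup;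
* `Rp ξ` : a representation with all intertwining operators `It`, `Rp.omT_it`;
* `omT_mul_left`, `omT_mul_right`, `omT_swap`, `omT_inn_left`, `omT_self`, `omT_pow`, `omT_shear`, `omT_shear'`.
-/

set_option autoImplicit false
set_option maxHeartbeats 400000

namespace Cfsg.Agent.MO.Om

open Cfsg Subgroup Representation Module
open Cfsg.Agent.Characters.Core Cfsg.Agent.MO.B
open scoped ComplexConjugate

variable {D : Type} [Group D]

theorem omT_def [Fintype D] (ξ : D → ℂ) (a b : Tw D) (m : D) : OmT ξ a b m = ξ 1 * ((Nat.card D : ℂ) ^ 2)⁻¹ *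
    ∑ u, ∑ v, a.z v * ((b.z u)⁻¹ : ℂˣ) * ξ (u * a.α v * m * (b.α u)⁻¹ * v⁻¹) := by
  simp only [OmT, finsum_eq_sum_of_fintype]

theorem omT_aut (ξ : D → ℂ) (α β : MulAut D) (m : D) : OmT ξ (aut α) (aut β) m = Om ξ α β m := by
  simp only [OmT, Om, aut_z, aut_α, inv_one, Units.val_one, one_mul]

theorem z_conj (z : D →* ℂˣ) (m u : D) : z (m * u * m⁻¹) = z u := by
  rw [map_mul, map_mul, map_inv, mul_comm (z m), mul_inv_cancel_right]

theorem inn_mul_z (m : D) (a : Tw D) (u : D) : (inn m * a).z u = a.z u := mul_one _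

theorem mul_inn_z (m : D) (a : Tw D) (u : D) : (a * inn m).z u = a.z u := (one_mul _).trans (z_conj _ _ _)

theorem conj_inn (a : Tw D) (m : D) : a * inn m * a⁻¹ = inn (a.α m) := by
  rw [mul_inv_eq_iff_eq_mul]
  refine Tw.eq (fun u => by rw [mul_inn_z, inn_mul_z]) fun u => ?_
  simp only [Tw.mul_α, inn_α, _root_.MulAut.mul_apply, _root_.MulAut.conj_apply, _root_.map_mul, _root_.map_inv]

theorem comm_iff {a b : Tw D} {m : D} : a * b * a⁻¹ * b⁻¹ = inn m ↔
    a.α * b.α * a.α⁻¹ * b.α⁻¹ = MulAut.conj m ∧ ∀ g, b.z g * a.z (b.α g) = a.z g * b.z (a.α g) := by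
  rw [mul_inv_eq_iff_eq_mul, mul_inv_eq_iff_eq_mul, mul_inv_eq_iff_eq_mul, mul_inv_eq_iff_eq_mul, mul_assoc, mul_assoc]
  refine ⟨fun h => ⟨congrArg Tw.α h, fun g => ?_⟩, fun h => Tw.eq (fun g => ?_) fun g => congrArg (· g) h.1⟩
  · exact (congrArg (fun c : Tw D => c.z g) h).trans (inn_mul_z m (b * a) g)
  · exact (h.2 g).trans (inn_mul_z m (b * a) g).symm

theorem inn_mem {ξ : D → ℂ} (hξ : IsClassFunction D ξ) (m : D) : inn m ∈ Fix ξ :=
  mem_Fix.2 fun u => (one_mul _).trans (hξ u m)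

theorem act_irr [Finite D] {ξ : D → ℂ} (hξ : IsIrrCharacter D ξ) (a : Tw D) : IsIrrCharacter D (a.act ξ) :=
  ODD.Red.isIrr_lin_mul a.z (isIrr_comp a.α.toMonoidHom a.α.surjective hξ)

theorem act_one_apply (a : Tw D) (ξ : D → ℂ) : a.act ξ 1 = ξ 1 := by simp only [Tw.act, _root_.map_one, _root_.Units.val_one, _root_.one_mul]

section direct

variable [Finite D] (ξ : D → ℂ) (a b : Tw D)

theorem omT_inn_mul (g m : D) : OmT ξ (inn g * a) b (g * m * (b.α g)⁻¹) = b.z g * OmT ξ a b m := by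
  have := Fintype.ofFinite D
  rw [omT_def, omT_def, mul_left_comm, Finset.mul_sum (a := (b.z g : ℂ))]
  refine congrArg _ (Fintype.sum_equiv (Equiv.mulRight g) _ _ fun u => ?_)
  rw [Finset.mul_sum]
  refine Finset.sum_congr rfl fun v _ => ?_
  (rewrite [inn_mul_z, Tw.mul_α, inn_α, Equiv.coe_mulRight]; (conv => enter [@3, @6, @5, @6, @3, @3]; rw [map_mul]); (conv => enter [@3, @6, @6, @1, @5, @6, @3]; rw [map_mul]); rewrite [MulAut.mul_apply, MulAut.conj_apply, show u * (g * a.α v * g⁻¹) * (g * m * (b.α g)⁻¹) * (b.α u)⁻¹ * v⁻¹ = u * g * a.α v * m * (b.α u * b.α g)⁻¹ * v⁻¹ by group])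
  simp only [mul_inv_rev, Units.val_mul, Units.val_inv_eq_inv_val]
  field_simp

theorem omT_mul_inn (g m : D) : OmT ξ a (inn g * b) (a.α g * m * g⁻¹) = ((a.z g)⁻¹ : ℂˣ) * OmT ξ a b m := by
  have := Fintype.ofFinite D
  rw [omT_def, omT_def, mul_left_comm, Finset.mul_sum (a := (((a.z g)⁻¹ : ℂˣ) : ℂ))]
  refine congrArg _ (Finset.sum_congr rfl fun u _ => ?_)
  rw [Finset.mul_sum]
  refine Fintype.sum_equiv (Equiv.mulRight g) _ _ fun v => ?_
  rw [inn_mul_z, Tw.mul_α, inn_α, Equiv.coe_mulRight, map_mul, map_mul, MulAut.mul_apply, MulAut.conj_apply,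
    show u * a.α v * (a.α g * m * g⁻¹) * (g * b.α u * g⁻¹)⁻¹ * v⁻¹ = u * (a.α v * a.α g) * m * (b.α u)⁻¹ * (v * g)⁻¹ by group]
  simp only [Units.val_mul, Units.val_inv_eq_inv_val]
  field_simp

variable {ξ}

theorem omT_cen {κ : D} (hκ : κ ∈ center D) {ω : ℂ} (h : ∀ g, ξ (κ * g) = ω * ξ g) (m : D) :
    OmT ξ a b (κ * m) = ω * OmT ξ a b m := by
  have := Fintype.ofFinite D
  rw [omT_def, omT_def, mul_left_comm, Finset.mul_sum (a := ω)]
  refine congrArg _ (Finset.sum_congr rfl fun u _ => ?_)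
  rw [Finset.mul_sum]
  refine Finset.sum_congr rfl fun v _ => ?_
  rw [← mul_assoc (u * a.α v), mem_center_iff.1 hκ, mul_assoc κ, mul_assoc κ, mul_assoc κ, h]
  ring

theorem apply_cen (hξ : IsIrrCharacter D ξ) {κ : D} (hκ : κ ∈ center D) {ω : ℂ} (h : ξ κ = ω * ξ 1) (g : D) :
    ξ (κ * g) = ω * ξ g := by
  obtain ⟨c, hc, -⟩ := ODD.Red.exists_central hξ hκ
  have h1 := hc 1
  rw [mul_one, h] at h1
  rw [hc, mul_right_cancel₀ (isIrr_apply_one_ne_zero hξ) h1]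

variable {a b}

/-- pairs which do not commute -/
theorem omT_nc (hξ : IsClassFunction D ξ) {m : D} (h1 : a.α * b.α * a.α⁻¹ * b.α⁻¹ = MulAut.conj m)
    (h2 : a * b * a⁻¹ * b⁻¹ ≠ inn m) : OmT ξ a b m = 0 := by
  have := Fintype.ofFinite D
  obtain ⟨g, hg⟩ := not_forall.1 fun h => h2 (comm_iff.2 ⟨h1, h⟩)
  have h3 : a.α (b.α g) = m * b.α (a.α g) * m⁻¹ := by
    have e := congrArg (· (b.α (a.α g))) h1
    simpa only [_root_.MulAut.mul_apply, _root_.MulAut.inv_apply, _root_.MulEquiv.symm_apply_apply, _root_.MulAut.conj_apply] using e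
  have h4 : OmT ξ a b m = (a.z g * b.z (a.α g) * (b.z g * a.z (b.α g))⁻¹ : ℂˣ) * OmT ξ a b m := by
    rw [omT_def, mul_left_comm, Finset.mul_sum (a := ((_ : ℂˣ) : ℂ))]
    refine congrArg _ (Fintype.sum_equiv ((Equiv.mulLeft g).trans (Equiv.mulRight (a.α g)⁻¹)) _ _ fun u => ?_).symm
    rw [Finset.mul_sum]
    refine Fintype.sum_equiv ((Equiv.mulLeft g).trans (Equiv.mulRight (b.α g)⁻¹)) _ _ fun v => ?_
    simp only [Equiv.trans_apply, Equiv.coe_mulLeft, Equiv.coe_mulRight, map_mul, map_inv, h3]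
    rw [← hξ (u * a.α v * m * (b.α u)⁻¹ * v⁻¹) g, show g * u * (a.α g)⁻¹ * (a.α g * a.α v * (m * b.α (a.α g) * m⁻¹)⁻¹) * m *
      (b.α g * b.α u * (b.α (a.α g))⁻¹)⁻¹ * (g * v * (b.α g)⁻¹)⁻¹ = g * (u * a.α v * m * (b.α u)⁻¹ * v⁻¹) * g⁻¹ by group]
    simp only [mul_inv_rev, Units.val_mul, Units.val_inv_eq_inv_val, inv_inv]
    field_simp
  by_contra h0
  exact hg (mul_inv_eq_one.1 (Units.ext ((mul_eq_right₀ h0).1 h4.symm))).symm

end direct

theorem sum_twT [Fintype D] {ξ : D → ℂ} (hξ : IsIrrCharacter D ξ) {b : Tw D} (h : b ∉ Fix ξ) (x y : D) :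
    ∑ u, ((b.z u)⁻¹ : ℂˣ) * ξ (u * x * (b.α u)⁻¹ * y) = 0 := by
  have h1 := classInner_irr_ne hξ (act_irr hξ b) fun e => h e.symm
  obtain ⟨n, ρ, -, rfl⟩ := hξ
  let τ : Representation ℂ D (Fin n → ℂ) := CharDeep.Twist.twist b.z (ρ.comp b.α.toMonoidHom)
  have e : b.act ρ.character = τ.character :=
    funext fun u => (CharDeep.Twist.twist_character b.z (ρ.comp b.α.toMonoidHom) u).symm
  rw [e] at h1
  have h3 : Subsingleton (IntertwiningMap τ ρ) :=
    finrank_zero_iff.1 (by exact_mod_cast (classInner_character ρ τ).symm.trans h1)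
  have h4 : ∑ u, ρ u * ρ x * τ u⁻¹ = 0 := by
    let f : IntertwiningMap τ ρ := ⟨∑ u, ρ u * ρ x * τ u⁻¹, fun w => by
      change (∑ u, ρ u * ρ x * τ u⁻¹) * τ w = ρ w * ∑ u, ρ u * ρ x * τ u⁻¹
      rw [Finset.sum_mul, Finset.mul_sum]
      refine (Fintype.sum_equiv (Equiv.mulLeft w) _ _ fun u => ?_).symm
      rw [Equiv.coe_mulLeft, mul_assoc _ (τ _), ← map_mul τ, mul_inv_rev, inv_mul_cancel_right, map_mul ρ w u]
      simp only [mul_assoc]⟩
    exact congrArg IntertwiningMap.toLinearMap (Subsingleton.elim f 0)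
  have h5 := congrArg (fun A => LinearMap.trace ℂ _ (A * ρ y)) h4
  simp only [Finset.sum_mul, map_sum, zero_mul, map_zero] at h5
  refine Eq.trans (Finset.sum_congr rfl fun u _ => ?_) h5
  change _ = LinearMap.trace ℂ _ (ρ u * ρ x * ((b.z u⁻¹ : ℂ) • ρ (b.α u⁻¹)) * ρ y)
  simp only [mul_smul_comm, smul_mul_assoc, map_smul, ← map_mul, ← map_mul, ← map_mul, map_inv, map_inv]
  rfl

theorem omT_zero_right [Finite D] {ξ : D → ℂ} (hξ : IsIrrCharacter D ξ) (a : Tw D) {b : Tw D} (h : b ∉ Fix ξ) (m : D) :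
    OmT ξ a b m = 0 := by
  have := Fintype.ofFinite D
  rw [omT_def, Finset.sum_comm, Finset.sum_eq_zero fun v _ => ?_, mul_zero]
  rw [← mul_zero (a.z v : ℂ), ← sum_twT hξ h (a.α v * m) v⁻¹, Finset.mul_sum]
  exact Finset.sum_congr rfl fun u _ => by rw [mul_assoc u, mul_assoc]

theorem omT_zero_left [Finite D] {ξ : D → ℂ} (hξ : IsIrrCharacter D ξ) {a : Tw D} (h : a ∉ Fix ξ) (b : Tw D) (m : D) :
    OmT ξ a b m = 0 := by
  have := Fintype.ofFinite D
  rw [omT_def, Finset.sum_eq_zero fun u _ => ?_, mul_zero]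
  rw [← mul_zero (((b.z u)⁻¹ : ℂˣ) : ℂ), ← sum_twT hξ h u (m * (b.α u)⁻¹), Finset.mul_sum]
  refine Fintype.sum_equiv (Equiv.inv D) _ _ fun v => ?_
  rw [← isIrr_isClassFunction hξ _ v⁻¹, Equiv.inv_apply, map_inv, map_inv, inv_inv, inv_inv, inv_inv,
    show v⁻¹ * (u * a.α v * m * (b.α u)⁻¹ * v⁻¹) * v = v⁻¹ * u * a.α v * (m * (b.α u)⁻¹) by group]
  ring

/-- **the value from witnesses**; `c` are scalars -/
theorem omT_wit [Finite D] {W : Type} [Group W] {Ψ : W → ℂ} {j : D →* W} (hΨ : IsCharacter W Ψ) {ξ : D → ℂ}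
    (hξ : IsIrrCharacter D ξ) (hj : ∀ d, Ψ (j d) = ξ d) {a b : Tw D} {P Q : W}
    (ha : ∀ u, ∃ c, (∀ w, Ψ (c * w) = a.z u * Ψ w) ∧ P * j u * P⁻¹ = c * j (a.α u))
    (hb : ∀ u, ∃ c, (∀ w, Ψ (c * w) = b.z u * Ψ w) ∧ Q * j u * Q⁻¹ = c * j (b.α u)) {m : D} {s : ℂ}
    (hc : ∀ w, Ψ (P * Q * P⁻¹ * Q⁻¹ * w) = s * Ψ (j m * w)) : s * OmT ξ a b m = 1 := by
  have := Fintype.ofFinite D
  have hi : IsIrrCharacter D fun d => Ψ (j d) := by rwa [funext hj]
  have h0 : Ψ 1 = ξ 1 := by rw [← hj, map_one]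
  have c1 := isCharacter_isClassFunction hΨ
  have c2 : ∀ x y, Ψ (x * y) = Ψ (y * x) := fun x y => by rw [← c1 _ y, mul_assoc y, mul_inv_cancel_right]
  have mv : ∀ {c : W} {z : ℂ}, (∀ w, Ψ (c * w) = z * Ψ w) → ∀ x y, Ψ (x * (c * y)) = z * Ψ (x * y) :=
    fun h x y => by rw [c2, mul_assoc, h, c2]
  have h1 : ∀ u v, s * (a.z v * ((b.z u)⁻¹ : ℂˣ) * ξ (u * a.α v * m * (b.α u)⁻¹ * v⁻¹)) =
      Ψ (j u * (P * (j v * Q) * P⁻¹) * (j u)⁻¹ * (j v * Q)⁻¹) := by
    intro u v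
    obtain ⟨c, k1, k2⟩ := ha v
    obtain ⟨d, k3, k4⟩ := hb u⁻¹
    rw [show j u * (P * (j v * Q) * P⁻¹) * (j u)⁻¹ * (j v * Q)⁻¹ =
      j u * (P * j v * P⁻¹ * (P * Q * P⁻¹ * Q⁻¹ * (Q * (j u)⁻¹ * Q⁻¹ * (j v)⁻¹))) by group, ← map_inv j u, k2, k4,
      mul_assoc c, mv k1, ← mul_assoc (j u), c2, mul_assoc (P * Q * P⁻¹ * Q⁻¹), hc, mul_assoc d, mul_assoc d, mv k3, map_inv b.z, map_inv b.α,
      ← hj, ← c1 _ (j u * j (a.α v))⁻¹]
    simp only [map_mul, map_inv]
    rw [show (j u * j (a.α v))⁻¹ * (j u * j (a.α v) * j m * (j (b.α u))⁻¹ * (j v)⁻¹) * (j u * j (a.α v))⁻¹⁻¹ =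
      j m * ((j (b.α u))⁻¹ * (j v)⁻¹ * (j u * j (a.α v))) by group]
    ring
  have h2 : Ψ 1 * ∑ u, ∑ v, s * (a.z v * ((b.z u)⁻¹ : ℂˣ) * ξ (u * a.α v * m * (b.α u)⁻¹ * v⁻¹)) = (Nat.card D : ℂ) ^ 2 := by
    simp only [h1]
    rw [Finset.sum_comm, Finset.mul_sum, Finset.sum_congr rfl fun v _ => sum_conj hΨ hi _ _, ← Finset.mul_sum, sq]
    congr 1
    rw [← sum_coset hΨ hi Q]
    exact Finset.sum_congr rfl fun v _ => by rw [c1]
  simp only [← Finset.mul_sum] at h2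
  have h3 : (Nat.card D : ℂ) ≠ 0 := card_ne_zero_complex
  rw [omT_def, ← h0, mul_comm (Ψ 1), mul_assoc, mul_left_comm, mul_left_comm s, h2, inv_mul_cancel₀ (pow_ne_zero 2 h3)]

/-- a representation which affords `ξ`, with its scalars and intertwining operators -/
structure Rp (ξ : D → ℂ) where
  W : Type
  [grp : Group W]
  Ψ : W → ℂ
  j : D →* W
  sc : ℂˣ →* W
  chr : IsCharacter W Ψ
  res : ∀ d, Ψ (j d) = ξ d
  cen : ∀ c w, w * sc c = sc c * w
  smul : ∀ c w, Ψ (sc c * w) = c * Ψ w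
  schur : ∀ w, (∀ u, w * j u = j u * w) → ∃ c, w = sc c
  ex : ∀ a ∈ Fix ξ, ∃ P, ∀ u, P * j u * P⁻¹ = sc (a.z u) * j (a.α u)

attribute [instance] Rp.grp

theorem exists_rp [Finite D] {ξ : D → ℂ} (hξ : IsIrrCharacter D ξ) : Nonempty (Rp ξ) := by
  obtain ⟨n, ρ, hρ, rfl⟩ := hξ
  have hV : Nontrivial (Fin n → ℂ) := ((CharDeep.LinearChar.isIrreducible_iff ρ).1 hρ).1
  refine ⟨⟨(Module.End ℂ (Fin n → ℂ))ˣ, Representation.character (Units.coeHom (Module.End ℂ (Fin n → ℂ))), ρ.asGroupHom,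
    Units.map (algebraMap ℂ (Module.End ℂ (Fin n → ℂ))).toMonoidHom, ⟨n, _, rfl⟩, fun _ => rfl,
    fun c w => Units.ext (Algebra.commutes (c : ℂ) w.val).symm, fun c w => ?_, fun w h => ?_, fun a h => ?_⟩⟩
  · change LinearMap.trace ℂ _ (algebraMap ℂ _ (c : ℂ) * w.val) = c * LinearMap.trace ℂ _ w.val
    rw [← Algebra.smul_def, map_smul, smul_eq_mul]
  · obtain ⟨s, hs⟩ := CharactersDeep.IrrEquiv.exists_commute_scalar ρ hρ w.val fun u => congrArg Units.val (h u)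
    refine ⟨Units.mk0 s fun e => w.ne_zero (by rw [hs, e, zero_smul]), Units.ext ?_⟩
    exact hs.trans (Algebra.algebraMap_eq_smul_one s).symm
  · obtain ⟨e⟩ := CharactersDeep.IrrEquiv.exists_equiv_of_character_eq ρ
      (CharDeep.Twist.twist a.z (ρ.comp a.α.toMonoidHom)) hρ
      (funext fun u => (mem_Fix.1 h u).symm.trans
        (CharDeep.Twist.twist_character a.z (ρ.comp a.α.toMonoidHom) u).symm)
    refine ⟨LinearMap.GeneralLinearGroup.ofLinearEquiv e.toLinearEquiv, fun u => mul_inv_eq_iff_eq_mul.2 (Units.ext ?_)⟩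
    refine (e.isIntertwining' u).trans ?_
    change ((a.z u : ℂ) • ρ (a.α u)) * _ = algebraMap ℂ _ (a.z u : ℂ) * ρ (a.α u) * _
    rw [Algebra.smul_def]
    rfl

namespace Rp

variable {ξ : D → ℂ} (r : Rp ξ) {a b : Tw D} {P Q : r.W}

/-- `P` is an intertwining operator for `a` -/
def It (a : Tw D) (P : r.W) : Prop := ∀ u, P * r.j u * P⁻¹ = r.sc (a.z u) * r.j (a.α u)

theorem conj_sc (P : r.W) (c : ℂˣ) (w : r.W) : P * (r.sc c * w) * P⁻¹ = r.sc c * (P * w * P⁻¹) := by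
  rw [← mul_assoc P, r.cen, mul_assoc, mul_assoc, mul_assoc]

variable {r}

theorem It.mul (h : r.It a P) (k : r.It b Q) : r.It (a * b) (P * Q) := fun u => by
  rw [show P * Q * r.j u * (P * Q)⁻¹ = P * (Q * r.j u * Q⁻¹) * P⁻¹ by group, k, conj_sc, h, ← mul_assoc, ← map_mul]
  rfl

theorem It.inv (h : r.It a P) : r.It a⁻¹ P⁻¹ := fun u => by
  have e := h (a.α⁻¹ u)
  rw [MulAut.apply_inv_self, ← inv_mul_eq_iff_eq_mul, ← map_inv] at e
  rw [← e, conj_sc, Tw.inv_z, Tw.inv_α]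
  congr 1
  group

theorem It.fix (h : r.It a P) : a ∈ Fix ξ := mem_Fix.2 fun u => by
  rw [← r.res, ← r.smul, ← h, isCharacter_isClassFunction r.chr, r.res]

variable (r) in
theorem it_inn (m : D) : r.It (inn m) (r.j m) := fun u => by
  simp only [inn_z, map_one, one_mul, inn_α, MulAut.conj_apply, map_mul, map_mul, map_inv]

variable (r) in
theorem it_one : r.It 1 1 := fun u => by simp [Tw.one_z, Tw.one_α]

theorem It.pow (h : r.It a P) (n : ℕ) : r.It (a ^ n) (P ^ n) := by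
  induction n with
  | zero => simpa using r.it_one
  | succ n ih => simpa only [pow_succ] using ih.mul h

theorem It.uniq (h : r.It a P) (k : r.It a Q) : ∃ c, P = r.sc c * Q := by
  have e := h.mul k.inv
  rw [mul_inv_cancel] at e
  obtain ⟨c, hc⟩ := r.schur (P * Q⁻¹) fun u => by
    have e1 := e u
    rwa [Tw.one_z, map_one, one_mul, mul_inv_eq_iff_eq_mul] at e1
  exact ⟨c, mul_inv_eq_iff_eq_mul.1 hc⟩

theorem It.comm (h : r.It a P) (k : r.It b Q) {m : D} (hm : a * b * a⁻¹ * b⁻¹ = inn m) :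
    ∃ s, P * Q * P⁻¹ * Q⁻¹ = r.sc s * r.j m := (hm ▸ ((h.mul k).mul h.inv).mul k.inv).uniq (r.it_inn m)

theorem omT_it [Finite D] (hξ : IsIrrCharacter D ξ) (h : r.It a P) (k : r.It b Q) {m : D} {s : ℂˣ}
    (hs : P * Q * P⁻¹ * Q⁻¹ = r.sc s * r.j m) : OmT ξ a b m = (s⁻¹ : ℂˣ) := by
  rw [Units.val_inv_eq_inv_val]
  exact eq_inv_of_mul_eq_one_right (omT_wit r.chr hξ r.res (fun u => ⟨_, r.smul _, h u⟩) (fun u => ⟨_, r.smul _, k u⟩)
    fun w => by rw [hs, mul_assoc, r.smul])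

end Rp

section calculus

variable [Finite D] {ξ : D → ℂ} (hξ : IsIrrCharacter D ξ) {a a' b b' : Tw D} {m m' : D}
include hξ

theorem omT_mul_left (ha : a ∈ Fix ξ) (ha' : a' ∈ Fix ξ) (h : a * b * a⁻¹ * b⁻¹ = inn m) (h' : a' * b * a'⁻¹ * b⁻¹ = inn m') :
    OmT ξ (a * a') b (a.α m' * m) = ((a.z m')⁻¹ : ℂˣ) * (OmT ξ a b m * OmT ξ a' b m') := by
  by_cases hb : b ∈ Fix ξ
  swap
  · rw [omT_zero_right hξ _ hb, omT_zero_right hξ _ hb, zero_mul, mul_zero]
  obtain ⟨r⟩ := exists_rp hξ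
  obtain ⟨P, hP⟩ := r.ex a ha
  obtain ⟨P', hP'⟩ := r.ex a' ha'
  obtain ⟨Q, hQ⟩ := r.ex b hb
  obtain ⟨s, hs⟩ := Rp.It.comm hP hQ h
  obtain ⟨s', hs'⟩ := Rp.It.comm hP' hQ h'
  rw [Rp.omT_it hξ hP hQ hs, Rp.omT_it hξ hP' hQ hs', Rp.omT_it hξ (Rp.It.mul hP hP') hQ (s := s' * (a.z m' * s)) (by
    rw [show P * P' * Q * (P * P')⁻¹ * Q⁻¹ = P * (P' * Q * P'⁻¹ * Q⁻¹) * P⁻¹ * (P * Q * P⁻¹ * Q⁻¹) by group, hs, hs',
      r.conj_sc, hP, map_mul, map_mul, map_mul, mul_assoc, mul_assoc, ← mul_assoc (r.j _), r.cen]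
    simp only [mul_assoc])]
  simp only [mul_inv_rev, Units.val_mul]
  ring

theorem omT_mul_right (hb : b ∈ Fix ξ) (hb' : b' ∈ Fix ξ) (h : a * b * a⁻¹ * b⁻¹ = inn m) (h' : a * b' * a⁻¹ * b'⁻¹ = inn m') :
    OmT ξ a (b * b') (m * b.α m') = ((b.z m')⁻¹ : ℂˣ) * (OmT ξ a b m * OmT ξ a b' m') := by
  by_cases ha : a ∈ Fix ξ
  swap
  · rw [omT_zero_left hξ ha, omT_zero_left hξ ha, zero_mul, mul_zero]
  obtain ⟨r⟩ := exists_rp hξ
  obtain ⟨P, hP⟩ := r.ex a ha
  obtain ⟨Q, hQ⟩ := r.ex b hb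
  obtain ⟨Q', hQ'⟩ := r.ex b' hb'
  obtain ⟨s, hs⟩ := Rp.It.comm hP hQ h
  obtain ⟨s', hs'⟩ := Rp.It.comm hP hQ' h'
  rw [Rp.omT_it hξ hP hQ hs, Rp.omT_it hξ hP hQ' hs', Rp.omT_it hξ hP (Rp.It.mul hQ hQ') (s := s' * (b.z m' * s)) (by
    rw [show P * (Q * Q') * P⁻¹ * (Q * Q')⁻¹ = P * Q * P⁻¹ * Q⁻¹ * (Q * (P * Q' * P⁻¹ * Q'⁻¹) * Q⁻¹) by group, hs, hs',
      r.conj_sc, hQ, map_mul, map_mul, map_mul, ← mul_assoc (r.sc s'), ← mul_assoc, ← map_mul r.sc, r.cen]
    simp only [map_mul, mul_assoc])]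
  simp only [mul_inv_rev, Units.val_mul]
  ring

theorem omT_swap (ha : a ∈ Fix ξ) (hb : b ∈ Fix ξ) (h : a * b * a⁻¹ * b⁻¹ = inn m) : OmT ξ a b m * OmT ξ b a m⁻¹ = 1 := by
  obtain ⟨r⟩ := exists_rp hξ
  obtain ⟨P, hP⟩ := r.ex a ha
  obtain ⟨Q, hQ⟩ := r.ex b hb
  obtain ⟨s, hs⟩ := Rp.It.comm hP hQ h
  rw [Rp.omT_it hξ hP hQ hs, Rp.omT_it hξ hQ hP (s := s⁻¹) (by
    rw [show Q * P * Q⁻¹ * P⁻¹ = (P * Q * P⁻¹ * Q⁻¹)⁻¹ by group, hs, mul_inv_rev, ← map_inv, ← map_inv, r.cen]),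
    ← Units.val_mul, mul_inv_cancel, Units.val_one]

theorem omT_pow (ha : a ∈ Fix ξ) (i j : ℕ) : OmT ξ (a ^ i) (a ^ j) 1 = 1 := by
  obtain ⟨r⟩ := exists_rp hξ
  obtain ⟨P, hP⟩ := r.ex a ha
  rw [Rp.omT_it hξ (Rp.It.pow hP i) (Rp.It.pow hP j) (s := 1) (by
    rw [(Commute.pow_pow_self P i j).eq]
    simp only [_root_.mul_inv_cancel_right, _root_.mul_inv_cancel, _root_.map_one, _root_.mul_one]), inv_one, Units.val_one]

theorem omT_self (ha : a ∈ Fix ξ) : OmT ξ a a 1 = 1 := by simpa using omT_pow hξ ha 1 1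

theorem omT_one_left (hb : b ∈ Fix ξ) : OmT ξ 1 b 1 = 1 := by simpa using omT_pow hξ hb 0 1

theorem omT_one_right (ha : a ∈ Fix ξ) : OmT ξ a 1 1 = 1 := by simpa using omT_pow hξ ha 1 0

theorem omT_inn_left (hb : b ∈ Fix ξ) (g : D) : OmT ξ (inn g) b (g * (b.α g)⁻¹) = b.z g := by
  simpa [omT_one_left hξ hb] using omT_inn_mul ξ 1 b g 1

theorem omT_inn_right (ha : a ∈ Fix ξ) (g : D) : OmT ξ a (inn g) (a.α g * g⁻¹) = ((a.z g)⁻¹ : ℂˣ) := by
  simpa [omT_one_right hξ ha] using omT_mul_inn ξ a 1 g 1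

/-- the move `(a, b) ↦ (a, a b)` -/
theorem omT_shear (h : a * b * a⁻¹ * b⁻¹ = inn m) : OmT ξ a (a * b) (a.α m) = ((a.z m)⁻¹ : ℂˣ) * OmT ξ a b m := by
  by_cases ha : a ∈ Fix ξ
  swap
  · rw [omT_zero_left hξ ha, omT_zero_left hξ ha, mul_zero]
  by_cases hb : b ∈ Fix ξ
  · simpa [omT_self hξ ha] using omT_mul_right hξ ha hb (m := 1) (by simp only [_root_.mul_inv_cancel_right, _root_.mul_inv_cancel, _root_.map_one]) h
  · rw [omT_zero_right hξ _ hb, omT_zero_right hξ _ fun e => hb ((mul_mem_cancel_left ha).1 e), mul_zero]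

/-- the move `(a, b) ↦ (a b, b)` -/
theorem omT_shear' (h : a * b * a⁻¹ * b⁻¹ = inn m) : OmT ξ (a * b) b m = OmT ξ a b m := by
  by_cases hb : b ∈ Fix ξ
  swap
  · rw [omT_zero_right hξ _ hb, omT_zero_right hξ _ hb]
  by_cases ha : a ∈ Fix ξ
  · simpa [omT_self hξ hb] using omT_mul_left hξ ha hb h (m' := 1) (by simp only [_root_.mul_inv_cancel_right, _root_.mul_inv_cancel, _root_.map_one])
  · rw [omT_zero_left hξ ha, omT_zero_left hξ fun e => ha ((mul_mem_cancel_right hb).1 e)]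

theorem omT_ne_zero (ha : a ∈ Fix ξ) (hb : b ∈ Fix ξ) (h : a * b * a⁻¹ * b⁻¹ = inn m) : OmT ξ a b m ≠ 0 :=
  left_ne_zero_of_mul_eq_one (omT_swap hξ ha hb h)

end calculus

end Cfsg.Agent.MO.Om
end

-- part: MO/Om/Tr
section
/-!
# MO/Om: sums of commutator traces (helper89)

* `rh S` : the sum of `χ(1) χ` over `S`; `SF φ a b m` : the double sum; `TT_eq_SF`;
* `rh_res`, `rh_zero` : `rh` of the set of the characters over `S`;
* `SF_four` : the Fourier sum over the linear characters; `TT_fib` : the splitting by central characters;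
* `TT_inn_mul`, `TT_mul_inn`, `TT_nc`, `TrEq.rep` : from the representatives `E` to all automorphisms.
-/

set_option autoImplicit false
set_option maxHeartbeats 400000

namespace Cfsg.Agent.MO.Om

open Cfsg Subgroup
open Cfsg.Agent.Characters.Core Cfsg.Agent.H672 Cfsg.Agent.MO.B
open scoped ComplexConjugate

variable {D : Type} [Group D]

/-- the sum of `χ(1) χ` -/
noncomputable def rh (S : Set (D → ℂ)) (g : D) : ℂ := ∑ᶠ χ ∈ S, χ 1 * χ g

/-- the double sum -/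
noncomputable def SF (φ : D → ℂ) (a b : Tw D) (m : D) : ℂ :=
  ((Nat.card D : ℂ) ^ 2)⁻¹ * ∑ᶠ u, ∑ᶠ v, a.z v * ((b.z u)⁻¹ : ℂˣ) * φ (u * a.α v * m * (b.α u)⁻¹ * v⁻¹)

/-- a set of irreducible characters -/
def Irs (S : Set (D → ℂ)) : Prop := ∀ χ ∈ S, IsIrrCharacter D χ

theorem SF_def [Fintype D] (φ : D → ℂ) (a b : Tw D) (m : D) : SF φ a b m = ((Nat.card D : ℂ) ^ 2)⁻¹ *
    ∑ u, ∑ v, a.z v * ((b.z u)⁻¹ : ℂˣ) * φ (u * a.α v * m * (b.α u)⁻¹ * v⁻¹) := by
  simp only [SF, finsum_eq_sum_of_fintype]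

variable [Finite D] {S T : Set (D → ℂ)}

theorem Irs.finite (h : Irs S) : S.Finite := Set.finite_coe_iff.1 (MK.H.finite_sub h)

theorem irs_PT (p : ℕ) (N N1 C : Subgroup D) (ω : D → ℂ) : Irs (PT p N N1 C ω) := fun _ h => h.1

omit [Finite D] in
theorem irs_PT0 (p : ℕ) (C : Subgroup D) (ω : D → ℂ) : Irs (PT0 p C ω) := fun _ h => h.1.1

omit [Finite D] in
open Classical in
theorem Irs.finsum [Fintype (IrrCharacter D)] (h : Irs S) (F : (D → ℂ) → ℂ) :
    ∑ᶠ χ ∈ S, F χ = ∑ χ : IrrCharacter D, if (χ : D → ℂ) ∈ S then F χ else 0 := by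
  rw [← Finset.sum_filter, ← Finset.sum_image (g := Subtype.val) fun _ _ _ _ => Subtype.ext, ← finsum_mem_coe_finset]
  refine congrArg (fun U : Set (D → ℂ) => ∑ᶠ χ ∈ U, F χ) (Set.ext fun χ => ?_)
  simp only [Finset.coe_image, Finset.coe_filter, Finset.mem_univ, true_and]
  exact ⟨fun e => ⟨⟨χ, h χ e⟩, e, rfl⟩, fun ⟨_, e, e'⟩ => e' ▸ e⟩

theorem TT_eq_SF (h : S.Finite) (a b : Tw D) (m : D) : TT S a b m = SF (rh S) a b m := by
  have := Fintype.ofFinite D
  simp only [TT, rh, SF_def, omT_def, finsum_mem_eq_finite_toFinset_sum _ h, Finset.mul_sum]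
  rw [Finset.sum_comm]
  refine Finset.sum_congr rfl fun _ _ => Finset.sum_comm.trans ?_
  exact Finset.sum_congr rfl fun _ _ => Finset.sum_congr rfl fun _ _ => by ring

omit [Finite D] in
theorem rh_class (h : Irs S) : IsClassFunction D (rh S) := fun g x =>
  finsum_mem_congr rfl fun χ hχ => by rw [isIrr_isClassFunction (h χ hχ)]

open Classical in
theorem inner_rh [Fintype D] (h : Irs S) {χ : D → ℂ} (hχ : IsIrrCharacter D χ) :
    classInner (rh S) χ = if χ ∈ S then χ 1 else 0 := by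
  have e : rh S = ∑ ξ ∈ h.finite.toFinset, ξ 1 • ξ := funext fun u => by
    rw [rh, finsum_mem_eq_finite_toFinset_sum _ h.finite, Finset.sum_apply]
    rfl
  rw [e, classInner_sum_left, Finset.sum_congr rfl fun ξ hξ => by
    rw [classInner_smul_left, classInner_irr (h ξ (h.finite.mem_toFinset.1 hξ)) hχ, mul_ite, mul_one, mul_zero],
    Finset.sum_ite_eq']
  simp only [Set.Finite.mem_toFinset]

section above

variable {N : Type} [Group N] [Finite N] {j : N →* D} {S : Set (N → ℂ)}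

omit [Finite D] in
open Classical in
theorem inner_rh_comp [Fintype N] (j : N →* D) (hS : Irs S) {χ : D → ℂ} (hχ : IsIrrCharacter D χ)
    (h : ∀ θ, IsIrrCharacter N θ → Over j χ θ → (χ ∈ T ↔ θ ∈ S)) :
    classInner (rh S) (χ ∘ j) = if χ ∈ T then χ 1 else 0 := by
  have := finite_irr (G := N)
  have := Fintype.ofFinite (IrrCharacter N)
  have hc := isCharacter_comp j (isIrr_isCharacter hχ)
  have e := congrFun (classFunction_eq_sum (isCharacter_isClassFunction hc)) 1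
  rw [Function.comp, map_one, Finset.sum_apply] at e
  rw [classInner_eq_sum (rh_class hS) (isCharacter_isClassFunction hc), e,
    ← Finset.sum_const_zero (s := Finset.univ (α := IrrCharacter N)), ← Finset.sum_ite_irrel]
  refine Finset.sum_congr rfl fun θ _ => ?_
  obtain ⟨k, hk⟩ := classInner_isNat hc (isIrr_isCharacter θ.2)
  rw [inner_rh hS θ.2]
  by_cases h0 : classInner (χ ∘ j) θ = 0
  · simp [h0]
  · simp only [h θ θ.2 ((over_iff _ _ _).2 h0), hk, Complex.conj_natCast, Pi.smul_apply, smul_eq_mul, mul_comm, mul_ite,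
      mul_zero]

omit [Finite D] [Finite N] in
theorem sum_range [Fintype D] [Fintype N] (hj : Function.Injective j) {F : D → ℂ} (hF : ∀ d, d ∉ j.range → F d = 0) :
    ∑ d, F d = ∑ n, F (j n) := by
  classical
  rw [← Finset.sum_image (s := Finset.univ) (g := j) fun _ _ _ _ h => hj h]
  exact (Finset.sum_subset (Finset.subset_univ _) fun u _ hu => hF u fun ⟨n, h⟩ =>
    hu (Finset.mem_image.2 ⟨n, Finset.mem_univ _, h⟩)).symm

omit [Finite D] [Finite N] in
theorem card_range (hj : Function.Injective j) : (Nat.card D : ℂ) = j.range.index * Nat.card N := by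
  rw [← j.range.index_mul_card, Nat.cast_mul, Nat.card_congr (MonoidHom.ofInjective hj).toEquiv]

/-- **the characters over a set**, on the subgroup -/
theorem rh_res (hj : Function.Injective j) (hS : Irs S) (hT : Irs T)
    (h : ∀ χ θ, IsIrrCharacter D χ → IsIrrCharacter N θ → Over j χ θ → (χ ∈ T ↔ θ ∈ S)) (n : N) :
    rh T (j n) = j.range.index * rh S n := by
  classical
  have := Fintype.ofFinite D
  have := Fintype.ofFinite N
  have := finite_irr (G := D)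
  have := Fintype.ofFinite (IrrCharacter D)
  refine congrFun (classFunction_ext (f := fun n => rh T (j n)) (f' := fun n => j.range.index * rh S n)
    (fun g x => by simp only [map_mul, map_inv, rh_class hT (j g)]) (fun g x => by simp only [rh_class hS g]) fun θ hθ => ?_) n
  have hU : Irs {χ | IsIrrCharacter D χ} := fun _ h => h
  have h1 : ∀ U : Set (D → ℂ), Irs U → classInner (fun n => rh U (j n)) θ =
      ∑ χ : IrrCharacter D, if (χ : D → ℂ) ∈ U then χ.1 1 * classInner (χ.1 ∘ j) θ else 0 := fun U hU => by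
    have e : (fun n => rh U (j n)) = ∑ χ : IrrCharacter D, if (χ : D → ℂ) ∈ U then χ.1 1 • (χ.1 ∘ j) else 0 :=
      funext fun n => by
        rw [rh, hU.finsum, Finset.sum_apply]
        exact Finset.sum_congr rfl fun χ _ => by split_ifs <;> rfl
    rw [e, classInner_sum_left]
    exact Finset.sum_congr rfl fun χ _ => by
      split_ifs
      exacts [classInner_smul_left _ _ _, classInner_zero_left _]
  have h2 : classInner (fun n => rh {χ | IsIrrCharacter D χ} (j n)) θ = j.range.index * θ 1 := by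
    have e : ∀ n, rh {χ | IsIrrCharacter D χ} (j n) = if n = 1 then (Nat.card D : ℂ) else 0 := fun n => by
      simp only [rh, hU.finsum, ← map_eq_one_iff j hj (x := n), ← Characters.Counting.sum_irr_one_mul]
      exact Finset.sum_congr rfl fun χ _ => if_pos χ.2
    obtain ⟨k, -, hk⟩ := isIrr_apply_one hθ
    have h0 : (Nat.card N : ℂ) ≠ 0 := card_ne_zero_complex
    simp only [classInner_def, e, ite_mul, zero_mul, Finset.sum_ite_eq', Finset.mem_univ, if_true, hk, Complex.conj_natCast,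
      card_range hj]
    field_simp
  rw [h1 T hT, show (fun n => j.range.index * rh S n) = (j.range.index : ℂ) • rh S from rfl, classInner_smul_left,
    inner_rh hS hθ, mul_ite, mul_zero, ← h2, h1 _ hU,
    ← Finset.sum_const_zero (s := Finset.univ (α := IrrCharacter D)), ← Finset.sum_ite_irrel]
  refine Finset.sum_congr rfl fun χ _ => ?_
  by_cases h0 : classInner (χ.1 ∘ j) θ = 0
  · simp only [h0, _root_.MulZeroClass.mul_zero, _root_.Finset.sum_const_zero, _root_.ite_self, _root_.Subtype.coe_prop, ↓ _root_.reduceIte]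
  · simp only [h χ θ χ.2 hθ ((over_iff _ _ _).2 h0), Set.mem_ofPred_eq, χ.2, if_true, Finset.sum_const_zero]

/-- **the characters over a set**, off the subgroup -/
theorem rh_zero (hj : Function.Injective j) (hn : j.range.Normal) (hS : Irs S) (hT : Irs T)
    (h : ∀ χ θ, IsIrrCharacter D χ → IsIrrCharacter N θ → Over j χ θ → (χ ∈ T ↔ θ ∈ S)) {d : D} (hd : d ∉ j.range) :
    rh T d = 0 := by
  classical
  have := Fintype.ofFinite D
  have := Fintype.ofFinite N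
  refine (congrFun (classFunction_ext (f' := fun d => if d ∈ j.range then rh T d else 0) (rh_class hT)
    (fun g x => ?_) fun χ hχ => ?_) d).trans (if_neg hd)
  · simp only [rh_class hT g x, hn.mem_comm_iff (a := x * g), inv_mul_cancel_left]
  · have h0 : (j.range.index : ℂ) ≠ 0 := Nat.cast_ne_zero.2 index_ne_zero_of_finite
    rw [inner_rh hT hχ, ← inner_rh_comp j hS hχ fun θ => h χ θ hχ, classInner_def, classInner_def,
      sum_range hj fun d hd => by rw [if_neg hd, zero_mul], card_range hj]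
    simp only [MonoidHom.mem_range, exists_apply_eq_apply, if_true, rh_res hj hS hT h, mul_assoc, ← Finset.mul_sum,
      Function.comp]
    field_simp

end above

omit [Finite D] in
/-- **the Fourier sum** -/
theorem SF_four [Fintype D] {ι : Type} (Λ : Finset ι) (z : ι → D →* ℂˣ) (N : Subgroup D) [Fintype N] {c : ℂ}
    (h1 : ∀ u ∈ N, ∑ i ∈ Λ, (z i u : ℂ) = c) (h0 : ∀ u ∉ N, ∑ i ∈ Λ, (z i u : ℂ) = 0) (φ : D → ℂ) (α β : MulAut D) (m : D) :
    ∑ i ∈ Λ, ∑ k ∈ Λ, SF φ ⟨z i, α⟩ ⟨z k, β⟩ m =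
      ((Nat.card D : ℂ) ^ 2)⁻¹ * (c ^ 2 * ∑ u : N, ∑ v : N, φ (u * α v * m * (β u)⁻¹ * (v : D)⁻¹)) := by
  simp only [SF_def, ← Finset.mul_sum]
  refine congrArg _ ?_
  have e : ∀ F : D → ℂ, (∑ i ∈ Λ, ∑ u, z i u * F u = c * ∑ u : N, F u) ∧ ∑ i ∈ Λ, ∑ u, z i u⁻¹ * F u = c * ∑ u : N, F u :=
    fun F => by
      constructor <;> rw [Finset.sum_comm, Finset.mul_sum, sum_range N.subtype_injective fun d hd => ?_]
      · exact Finset.sum_congr rfl fun u _ => by rw [← Finset.sum_mul, coe_subtype, h1 _ u.2]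
      · rw [← Finset.sum_mul, h0 _ (by simpa using hd), zero_mul]
      · exact Finset.sum_congr rfl fun u _ => by rw [← Finset.sum_mul, coe_subtype, h1 _ (inv_mem u.2)]
      · rw [← Finset.sum_mul, h0 _ (by simpa using hd), zero_mul]
  rw [Finset.sum_comm, sq, mul_assoc, Finset.mul_sum, ← (e fun u => c * ∑ v : N, φ (u * α v * m * (β u)⁻¹ * (v : D)⁻¹)).2]
  refine Finset.sum_congr rfl fun k _ => Finset.sum_comm.trans (Finset.sum_congr rfl fun u _ => ?_)
  rw [← (e fun v => φ (u * α v * m * (β u)⁻¹ * v⁻¹)).1, Finset.mul_sum]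
  refine Finset.sum_congr rfl fun i _ => ?_
  rw [Finset.mul_sum]
  exact Finset.sum_congr rfl fun v _ => by rw [map_inv]; ring

omit [Finite D] in
/-- **the splitting into fibres** -/
theorem TT_fib {Ω : Type} (h : S.Finite) (c : (D → ℂ) → Ω) (s : Finset Ω) (hs : ∀ χ ∈ S, c χ ∈ s) (a b : Tw D) (m : D) :
    TT S a b m = ∑ ω ∈ s, TT {χ | χ ∈ S ∧ c χ = ω} a b m := by
  classical
  rw [TT, finsum_mem_eq_finite_toFinset_sum _ h,
    ← Finset.sum_fiberwise_of_maps_to (g := c) fun χ hχ => hs χ (h.mem_toFinset.1 hχ)]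
  refine Finset.sum_congr rfl fun ω _ => ?_
  rw [TT, ← finsum_mem_coe_finset]
  simp only [Finset.coe_filter, Set.Finite.mem_toFinset]

omit [Finite D] in
theorem TT_mul (h : S.Finite) {a b a' b' : Tw D} {m m' : D} {c : ℂ} (e : ∀ χ ∈ S, OmT χ a b m = c * OmT χ a' b' m') :
    TT S a b m = c * TT S a' b' m' := by
  simp only [TT, finsum_mem_eq_finite_toFinset_sum _ h, Finset.mul_sum]
  exact Finset.sum_congr rfl fun χ hχ => e χ (h.mem_toFinset.1 hχ)

theorem TT_inn_mul (h : S.Finite) (a b : Tw D) (g m : D) :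
    TT S (inn g * a) b (g * m * (b.α g)⁻¹) = b.z g * TT S a b m := TT_mul h fun χ _ => omT_inn_mul χ a b g m

theorem TT_mul_inn (h : S.Finite) (a b : Tw D) (g m : D) :
    TT S a (inn g * b) (a.α g * m * g⁻¹) = ((a.z g)⁻¹ : ℂˣ) * TT S a b m := TT_mul h fun χ _ => omT_mul_inn χ a b g m

theorem TT_nc (h : Irs S) {a b : Tw D} {m : D} (h1 : a.α * b.α * a.α⁻¹ * b.α⁻¹ = MulAut.conj m)
    (h2 : a * b * a⁻¹ * b⁻¹ ≠ inn m) : TT S a b m = 0 :=
  finsum_mem_of_eqOn_zero fun χ hχ => omT_nc (isIrr_isClassFunction (h χ hχ)) h1 h2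

section rs

omit [Finite D]

theorem comm_inn_mul {a b : Tw D} {m : D} (h : a * b * a⁻¹ * b⁻¹ = inn m) (g : D) :
    inn g * a * b * (inn g * a)⁻¹ * b⁻¹ = inn (g * m * (b.α g)⁻¹) := by
  rw [map_mul, map_mul, map_inv, ← h, ← conj_inn]
  group

theorem comm_mul_inn {a b : Tw D} {m : D} (h : a * b * a⁻¹ * b⁻¹ = inn m) (g : D) :
    a * (inn g * b) * a⁻¹ * (inn g * b)⁻¹ = inn (a.α g * m * g⁻¹) := by
  rw [map_mul, map_mul, map_inv, ← h, ← conj_inn]
  group

variable {M : Subgroup D} {a b : Tw D} {a' b' : Tw M}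

theorem Rs.mul (h : Rs M a a') (k : Rs M b b') : Rs M (a * b) (a' * b') := fun x =>
  ⟨by rw [Tw.mul_z, Tw.mul_z, (k x).1, (h _).1, (k x).2],
    by rw [Tw.mul_α, Tw.mul_α, MulAut.mul_apply, MulAut.mul_apply, (h _).2, (k x).2]⟩

theorem Rs.inv (h : Rs M a a') : Rs M a⁻¹ a'⁻¹ := fun x => by
  have e : (a'.α⁻¹ x : D) = a.α⁻¹ x := by rw [eq_comm, MulAut.inv_def, MulEquiv.symm_apply_eq, ← (h _).2, MulAut.apply_inv_self]
  exact ⟨by rw [Tw.inv_z, Tw.inv_z, (h _).1, e], e⟩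

theorem rs_inn (m : M) : Rs M (inn (m : D)) (inn m) := fun _ => ⟨rfl, rfl⟩

theorem Rs.uniq {a'' : Tw M} (h : Rs M a a') (k : Rs M a a'') : a' = a'' :=
  Tw.eq (fun u => (h u).1.trans (k u).1.symm) fun u => Subtype.ext ((h u).2.trans (k u).2.symm)

theorem Rs.comm (h : Rs M a a') (k : Rs M b b') {m : M} (e : a * b * a⁻¹ * b⁻¹ = inn (m : D)) :
    a' * b' * a'⁻¹ * b'⁻¹ = inn m := (e ▸ ((h.mul k).mul h.inv).mul k.inv).uniq (rs_inn m)

end rs

/-- **from the representatives to all automorphisms** -/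
theorem TrEq.rep {p : ℕ} {G M : Subgroup D} {E E' : Set (MulAut D)} (h : TrEq p G M E) (hc : ∀ a b : D, a * b * a⁻¹ * b⁻¹ ∈ G)
    (hr : ∀ σ ∈ E', ∃ m ∈ M, ∃ e ∈ E, σ = MulAut.conj m * e) : TrEq p G M E' := by
  intro G1 ω a b a' b' m mid ha hb h1 h2 ra rb e
  have k : ∀ {a : Tw D}, Adm G E' a → (∀ t ∈ G1, a.α t ∈ G1) →
      ∃ g : M, Adm G E (inn (g : D) * a) ∧ ∀ t ∈ G1, (inn (g : D) * a).α t ∈ G1 := fun {a} ha h1 => by
    obtain ⟨g, hg, σ, hσ, e⟩ := hr _ ha.2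
    refine ⟨⟨g, hg⟩⁻¹, ⟨fun u hu => (inn_mul_z _ _ _).trans (ha.1 u hu), ?_⟩, fun t ht => ?_⟩
    · rwa [Tw.mul_α, e, inn_α, coe_inv, map_inv, inv_mul_cancel_left]
    · exact (mul_mem_cancel_right (inv_mem (h1 t ht))).1 (mid.le (mem_sup_left (hc _ _)))
  obtain ⟨g, ha, h1⟩ := k ha h1
  obtain ⟨g', hb, h2⟩ := k hb h2
  have ra' := (rs_inn g).mul ra
  have e1 := h G1 ω _ _ _ _ ((inn g * a').α g' * (g * m * (b'.α g)⁻¹) * g'⁻¹) mid ha hb h1 h2 ra' ((rs_inn g').mul rb) (by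
    rw [comm_mul_inn (comm_inn_mul e g), ← (rb g).2, ← (ra' g').2]
    rfl)
  rw [TT_mul_inn (irs_PT _ _ _ _ _).finite, TT_inn_mul (irs_PT _ _ _ _ _).finite, coe_mul, coe_mul, coe_mul, coe_mul, coe_inv,
    coe_inv, (rb g).2, (ra' g').2, TT_mul_inn (irs_PT _ _ _ _ _).finite, TT_inn_mul (irs_PT _ _ _ _ _).finite, (rb g).1,
    (ra' g').1] at e1
  exact mul_left_cancel₀ (Units.ne_zero _) (mul_left_cancel₀ (Units.ne_zero _) e1)

end Cfsg.Agent.MO.Om
end

-- part: MO/Cnt/Bij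
section
/-!
# MO/Cnt: a bijection from the counts over the orbits (helper20)

* `card_eq_of_le`, `exists_equiv` : from the numbers of fixed points to a bijection which keeps the stabilisers;
* `RL κ a a'` : restriction of a twist; `Cj κ` : conjugate functions; `os κ` : the sum over an orbit; `cliff`;
* `Hy` : the hypotheses; `Hy.bij` : the bijection.
-/

set_option autoImplicit false
set_option maxHeartbeats 400000

namespace Cfsg.Agent.MO.Cnt

open Cfsg Subgroup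
open Cfsg.Agent.Characters.Core Cfsg.Agent.H672 Cfsg.Agent.MO.A.RS Cfsg.Agent.MO.Om

section mob

variable {α β : Type} [Finite α] [Finite β]

theorem card_eq_of_le {P : Type} [PartialOrder P] (f : α → P) (g : β → P)
    (h : ∀ p, Nat.card {a // p ≤ f a} = Nat.card {b // p ≤ g b}) (p : P) :
    Nat.card {a // f a = p} = Nat.card {b // g b = p} := by
  classical
  have := Fintype.ofFinite α
  have := Fintype.ofFinite β
  let T : Finset P := Finset.univ.image f ∪ Finset.univ.image g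
  have key : ∀ {γ : Type} [Fintype γ] (f : γ → P), (∀ a, f a ∈ T) → ∀ p, Nat.card {a // p ≤ f a} =
      Nat.card {a // f a = p} + ∑ q ∈ T.filter (p < ·), Nat.card {a // f a = q} := fun f hf p => by
    simp only [Nat.card_eq_fintype_card, Fintype.card_subtype]
    rw [Finset.card_eq_sum_card_fiberwise (f := f) (t := insert p (T.filter (p < ·))) fun a ha => by
      have h1 := (Finset.mem_filter.1 ha).2
      exact Finset.mem_coe.2 (Finset.mem_insert.2 (h1.eq_or_lt.imp Eq.symm fun h2 => Finset.mem_filter.2 ⟨hf a, h2⟩)),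
      Finset.sum_insert (by simp)]
    have e : ∀ q, p ≤ q → (Finset.univ.filter fun a => p ≤ f a).filter (fun a => f a = q) = Finset.univ.filter fun a => f a = q :=
      fun q hq => by
        rw [Finset.filter_filter]
        exact Finset.filter_congr fun a _ => ⟨And.right, fun e => ⟨e ▸ hq, e⟩⟩
    rw [e p le_rfl, Finset.sum_congr rfl fun q hq => by rw [e q (Finset.mem_filter.1 hq).2.le]]
  induction hn : (T.filter (p < ·)).card using Nat.strong_induction_on generalizing p with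
  | _ n ih =>
  have h1 := h p
  rw [key f (fun a => Finset.mem_union_left _ (Finset.mem_image_of_mem f (Finset.mem_univ a))),
    key g (fun a => Finset.mem_union_right _ (Finset.mem_image_of_mem g (Finset.mem_univ a))),
    Finset.sum_congr rfl fun q hq => ih _ (hn ▸ Finset.card_lt_card ⟨fun r hr => Finset.mem_filter.2
      ⟨(Finset.mem_filter.1 hr).1, (Finset.mem_filter.1 hq).2.trans (Finset.mem_filter.1 hr).2⟩,
      fun hr => lt_irrefl q (Finset.mem_filter.1 (hr hq)).2⟩) q rfl] at h1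
  exact Nat.add_right_cancel h1

/-- **a bijection which keeps the fibres and the stabilisers** -/
theorem exists_equiv {T A : Type} (f : α → T) (g : β → T) (F : α → A → Prop) (G : β → A → Prop)
    (h : ∀ t (S : Set A), Nat.card {a // f a = t ∧ ∀ s ∈ S, F a s} = Nat.card {b // g b = t ∧ ∀ s ∈ S, G b s}) :
    ∃ e : α ≃ β, ∀ a, g (e a) = f a ∧ ∀ s, G (e a) s ↔ F a s := by
  let _ : PartialOrder (T × Set A) :=
    { le := fun x y => y.1 = x.1 ∧ ∀ s ∈ x.2, s ∈ y.2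
      le_refl := fun _ => ⟨rfl, fun _ => id⟩
      le_trans := fun _ _ _ h k => ⟨k.1.trans h.1, fun s hs => k.2 s (h.2 s hs)⟩
      le_antisymm := fun _ _ h k => Prod.ext k.1 (Set.ext fun s => ⟨h.2 s, k.2 s⟩) }
  have h1 := fun p => (Finite.card_eq.1 (card_eq_of_le (fun a => (f a, {s | F a s})) (fun b => (g b, {s | G b s}))
    (fun p => h p.1 p.2) p)).some
  exact ⟨Equiv.ofFiberEquiv h1, fun a => by
    have h2 := Equiv.ofFiberEquiv_map h1 a
    exact ⟨congrArg Prod.fst h2, Set.ext_iff.1 (congrArg Prod.snd h2)⟩⟩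

end mob

variable {M L : Type} [Group M] [Group L] {κ : L →* M}

/-- `a'` is the restriction of `a` along `κ` -/
def RL (κ : L →* M) (a : Tw M) (a' : Tw L) : Prop := ∀ x, a'.z x = a.z (κ x) ∧ κ (a'.α x) = a.α (κ x)

section rl

variable {a b : Tw M} {a' b' : Tw L}

theorem RL.mul (h : RL κ a a') (k : RL κ b b') : RL κ (a * b) (a' * b') := fun x =>
  ⟨by rw [Tw.mul_z, Tw.mul_z, (k x).1, (h _).1, (k x).2],
    by rw [Tw.mul_α, Tw.mul_α, MulAut.mul_apply, MulAut.mul_apply, (h _).2, (k x).2]⟩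

theorem RL.inv (h : RL κ a a') : RL κ a⁻¹ a'⁻¹ := fun x => by
  have e : κ (a'.α⁻¹ x) = a.α⁻¹ (κ x) := by
    rw [eq_comm, MulAut.inv_def, MulEquiv.symm_apply_eq, ← (h _).2, MulAut.apply_inv_self]
  exact ⟨by rw [Tw.inv_z, Tw.inv_z, (h _).1, e], e⟩

theorem RL.uniq (hi : Function.Injective κ) (h : RL κ a a') (k : RL κ a b') : a' = b' :=
  Tw.eq (fun u => (h u).1.trans (k u).1.symm) fun u => hi ((h u).2.trans (k u).2.symm)

theorem RL.act (h : RL κ a a') (ψ : M → ℂ) : a.act ψ ∘ κ = a'.act (ψ ∘ κ) := funext fun x => by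
  simp only [Function.comp_apply, Tw.act, h x]

theorem act_smul (a : Tw L) (c : ℂ) (φ : L → ℂ) : a.act (c • φ) = c • a.act φ := funext fun _ => mul_left_comm _ _ _

theorem act_inv (a : Tw L) (φ : L → ℂ) : a.act (a⁻¹.act φ) = φ := by rw [← Tw.act_mul, inv_mul_cancel, Tw.act_one]

theorem inv_act (a : Tw L) (φ : L → ℂ) : a⁻¹.act (a.act φ) = φ := by rw [← Tw.act_mul, mul_inv_cancel, Tw.act_one]

end rl

/-- conjugate functions -/
def Cj (κ : L →* M) (φ φ' : L → ℂ) : Prop := ∃ m b, RL κ (inn m) b ∧ b.act φ = φ'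

/-- the sum over the orbit -/
noncomputable def os (κ : L →* M) (φ : L → ℂ) : L → ℂ := ∑ᶠ μ ∈ {μ | Cj κ φ μ}, μ

section cj

variable {φ φ' φ'' : L → ℂ}

theorem Cj.refl (φ : L → ℂ) : Cj κ φ φ := ⟨1, 1, fun _ => ⟨rfl, by rw [map_one]; rfl⟩, Tw.act_one φ⟩

theorem Cj.symm (h : Cj κ φ φ') : Cj κ φ' φ :=
  let ⟨m, b, h1, h2⟩ := h
  ⟨m⁻¹, b⁻¹, map_inv inn m ▸ h1.inv, h2 ▸ inv_act b φ⟩

theorem Cj.trans (h : Cj κ φ φ') (k : Cj κ φ' φ'') : Cj κ φ φ'' :=
  let ⟨m, b, h1, h2⟩ := h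
  let ⟨m', b', k1, k2⟩ := k
  ⟨m * m', b * b', map_mul inn m m' ▸ h1.mul k1, by rw [Tw.act_mul, h2, k2]⟩

theorem Cj.act {a : Tw M} {a' : Tw L} (r : RL κ a a') (h : Cj κ φ φ') : Cj κ (a'.act φ) (a'.act φ') :=
  let ⟨m, b, h1, h2⟩ := h
  ⟨_, a'⁻¹ * b * a'⁻¹⁻¹, conj_inn a⁻¹ m ▸ (r.inv.mul h1).mul r.inv.inv, by
    rw [← h2, ← Tw.act_mul, ← Tw.act_mul, inv_inv, ← mul_assoc, mul_inv_cancel_left]⟩

theorem Cj.os_eq (h : Cj κ φ φ') : os κ φ = os κ φ' :=
  congrArg (fun S : Set (L → ℂ) => ∑ᶠ μ ∈ S, μ) (Set.ext fun _ => ⟨h.symm.trans, h.trans⟩)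

theorem Cj.one (h : Cj κ φ φ') : φ' 1 = φ 1 :=
  let ⟨_, b, _, h2⟩ := h
  h2 ▸ act_one_apply b φ

variable [Finite L]

theorem exists_inn (hi : Function.Injective κ) (hn : κ.range.Normal) (m : M) : ∃ b, RL κ (inn m) b := by
  choose g hg using fun x => hn.conj_mem _ ⟨x, rfl⟩ m
  let g' : L →* L := MonoidHom.mk' g fun a b => hi (by rw [hg, map_mul, map_mul, hg, hg]; group)
  have h1 : Function.Injective g' := fun a b e => hi (by
    have h2 := congrArg κ e
    rwa [show κ (g' a) = _ from hg a, show κ (g' b) = _ from hg b, mul_left_inj, mul_right_inj] at h2)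
  exact ⟨aut (MulEquiv.ofBijective g' (Finite.injective_iff_bijective.1 h1)), fun x => ⟨rfl, hg x⟩⟩

theorem cj_iff (hi : Function.Injective κ) (hn : κ.range.Normal) :
    Cj κ φ φ' ↔ ∃ m : M, ∀ x y, κ y = m * κ x * m⁻¹ → φ' x = φ y := by
  refine ⟨fun ⟨m, b, h1, h2⟩ => ⟨m, fun x y e => ?_⟩, fun ⟨m, h⟩ => ?_⟩
  · rw [← h2, Tw.act, (h1 x).1, inn_z, Units.val_one, one_mul, hi ((h1 x).2.trans e.symm)]
  · obtain ⟨b, hb⟩ := exists_inn hi hn m
    exact ⟨m, b, hb, funext fun x => by rw [Tw.act, (hb x).1, inn_z, Units.val_one, one_mul, h x _ (hb x).2]⟩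

theorem Cj.irr (h : Cj κ φ φ') (hφ : IsIrrCharacter L φ) : IsIrrCharacter L φ' :=
  let ⟨_, b, _, h2⟩ := h
  h2 ▸ act_irr hφ b

theorem irs_cj (hφ : IsIrrCharacter L φ) : Irs {μ | Cj κ φ μ} := fun _ h => h.irr hφ

theorem os_def (hφ : IsIrrCharacter L φ) : os κ φ = ∑ μ ∈ (irs_cj (κ := κ) hφ).finite.toFinset, μ :=
  finsum_mem_eq_finite_toFinset_sum _ _

theorem os_chr (hφ : IsIrrCharacter L φ) : IsCharacter L (os κ φ) :=
  os_def (κ := κ) hφ ▸ isCharacter_sum _ fun μ h => isIrr_isCharacter (irs_cj hφ μ ((irs_cj hφ).finite.mem_toFinset.1 h))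

open Classical in
theorem inner_os [Fintype L] (hφ : IsIrrCharacter L φ) (hφ' : IsIrrCharacter L φ') :
    classInner (os κ φ) φ' = if Cj κ φ φ' then 1 else 0 := by
  rw [os_def hφ, classInner_sum_left, Finset.sum_congr rfl fun μ h =>
    classInner_irr (irs_cj hφ μ ((irs_cj hφ).finite.mem_toFinset.1 h)) hφ', Finset.sum_ite_eq']
  simp only [Set.Finite.mem_toFinset, Set.mem_ofPred_eq]

theorem os_one (hφ : IsIrrCharacter L φ) : os κ φ 1 = ({μ | Cj κ φ μ}.ncard : ℂ) * φ 1 := by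
  rw [os_def hφ, Finset.sum_apply, Finset.sum_congr rfl fun μ h => Cj.one ((irs_cj hφ).finite.mem_toFinset.1 h),
    Finset.sum_const, nsmul_eq_mul, Set.ncard_eq_toFinset_card _ (irs_cj hφ).finite]

theorem os_one_ne (hφ : IsIrrCharacter L φ) : os κ φ 1 ≠ 0 := by
  rw [os_one hφ]
  exact mul_ne_zero (Nat.cast_ne_zero.2 (Set.ncard_ne_zero_of_mem (Cj.refl φ) (irs_cj hφ).finite))
    (isIrr_apply_one_ne_zero hφ)

theorem inner_act [Fintype L] (a : Tw L) (φ φ' : L → ℂ) : classInner (a.act φ) (a.act φ') = classInner φ φ' := by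
  rw [← Characters.Clifford.classInner_comp_mulEquiv a.α φ φ', classInner_def, classInner_def]
  refine congrArg _ (Finset.sum_congr rfl fun x _ => ?_)
  rw [Tw.act, Tw.act, map_mul, mul_mul_mul_comm, Complex.mul_conj, Complex.normSq_eq_norm_sq,
    Complex.norm_eq_one_of_pow_eq_one (n := Nat.card L)
      (by rw [← Units.val_pow_eq_pow_val, ← map_pow, pow_card_eq_one', map_one, Units.val_one]) Nat.card_pos.ne']
  simp

omit [Finite L] in
theorem act_class (a : Tw L) (h : IsClassFunction L φ) : IsClassFunction L (a.act φ) := fun g x => by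
  rw [Tw.act, Tw.act, z_conj, map_mul, map_mul, map_inv, h]

theorem os_act {a : Tw M} {a' : Tw L} (r : RL κ a a') (hφ : IsIrrCharacter L φ) : a'.act (os κ φ) = os κ (a'.act φ) := by
  classical
  have := Fintype.ofFinite L
  refine classFunction_ext (act_class a' (isCharacter_isClassFunction (os_chr hφ)))
    (isCharacter_isClassFunction (os_chr (act_irr hφ a'))) fun μ hμ => ?_
  rw [← act_inv a' μ, inner_act, inner_os hφ (act_irr hμ _), inner_os (act_irr hφ _) (act_irr (act_irr hμ _) _)]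
  exact if_congr ⟨Cj.act r, fun h => by simpa only [inv_act] using Cj.act r.inv h⟩ rfl rfl

theorem cj_of_os (hφ : IsIrrCharacter L φ) (hφ' : IsIrrCharacter L φ') {c c' : ℂ} (hc : c' ≠ 0)
    (h : c • os κ φ = c' • os κ φ') : Cj κ φ φ' := by
  have := Fintype.ofFinite L
  have h1 := congrArg (classInner · φ') h
  simp only [classInner_smul_left, inner_os hφ hφ', inner_os hφ' hφ', if_pos (Cj.refl φ'), mul_one] at h1
  by_contra h2
  exact hc (by rw [← h1, if_neg h2, mul_zero])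

/-- **the theorem of Clifford** -/
theorem cliff [Finite M] (hi : Function.Injective κ) (hn : κ.range.Normal) {ψ : M → ℂ} (hψ : IsIrrCharacter M ψ)
    (hφ : IsIrrCharacter L φ) (ho : Over κ ψ φ) : ∃ e : ℕ, 0 < e ∧ ψ ∘ κ = (e : ℂ) • os κ φ := by
  have := Fintype.ofFinite L
  have hc := isCharacter_comp κ (isIrr_isCharacter hψ)
  obtain ⟨e, he⟩ := classInner_isNat hc (isIrr_isCharacter hφ)
  refine ⟨e, Nat.pos_of_ne_zero fun h => (over_iff _ _ _).1 ho (by rw [he, h, Nat.cast_zero]),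
    classFunction_ext (isCharacter_isClassFunction hc) (fun g x => congrArg ((e : ℂ) * ·)
      (isCharacter_isClassFunction (os_chr hφ) g x)) fun μ hμ => ?_⟩
  rw [classInner_smul_left, inner_os hφ hμ]
  split_ifs with h
  · obtain ⟨m, b, h1, rfl⟩ := h
    rw [mul_one, ← he, ← inner_act b _ φ, ← h1.act, show (inn m).act ψ = ψ from inn_mem (isIrr_isClassFunction hψ) m]
  · rw [mul_zero]
    by_contra h1
    exact h ((cj_iff hi hn).2 (exists_conj hi hn hψ hφ hμ ho ((over_iff _ _ _).2 h1)))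

theorem over_iff_os [Finite M] (hi : Function.Injective κ) (hn : κ.range.Normal) {ψ : M → ℂ} (hψ : IsIrrCharacter M ψ)
    (hφ : IsIrrCharacter L φ) : Over κ ψ φ ↔ ∃ e : ℕ, ψ ∘ κ = (e : ℂ) • os κ φ := by
  have := Fintype.ofFinite L
  refine ⟨fun h => (cliff hi hn hψ hφ h).imp fun _ h => h.2, fun ⟨e, he⟩ => (over_iff _ _ _).2 fun h => ?_⟩
  rw [he, classInner_smul_left, inner_os hφ hφ, if_pos (Cj.refl φ), mul_one] at h
  exact isIrr_apply_one_ne_zero hψ (by simpa [h] using congrFun he 1)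

end cj

/-- equality up to a sign -/
def Pm {V : Type} [Neg V] (v w : V) : Prop := v = w ∨ v = -w

theorem pm_iff {V : Type} [InvolutiveNeg V] {v w : V} : ({v, -v} : Set V) = {w, -w} ↔ Pm v w := by
  rw [Set.pair_eq_pair_iff]
  exact ⟨Or.imp And.left And.left, Or.imp (fun e => ⟨e, congrArg _ e⟩) fun e => ⟨e, by rw [e, neg_neg]⟩⟩

theorem Pm.symm {V : Type} [InvolutiveNeg V] {v w : V} (h : Pm v w) : Pm w v := pm_iff.1 (pm_iff.2 h).symm

theorem Pm.trans {V : Type} [InvolutiveNeg V] {u v w : V} (h : Pm u v) (k : Pm v w) : Pm u w :=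
  pm_iff.1 ((pm_iff.2 h).trans (pm_iff.2 k))

/-- **the hypotheses**: `U` is the set of the global characters with the multiplicities `y`, `A` the set of the symmetries,
`fx u a` says that `a` fixes `u` -/
structure Hy {U X A : Type} (κ : L →* M) (y : U → X → ℂ) (yL : (L → ℂ) →ₗ[ℂ] X → ℂ) (t : A → Tw M) (tL : A → Tw L)
    (fx : U → A → Prop) : Prop where
  inj : Function.Injective κ
  nrm : κ.range.Normal
  rl : ∀ a, RL κ (t a) (tL a)
  cl : ∀ a m, ∃ a', t a' = inn m * t a ∧ ∀ u, fx u a' ↔ fx u a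
  eqv : ∀ u a φ, fx u a → y u = yL φ → y u = yL ((tL a).act φ)
  ne : ∀ φ, yL φ = 0 → φ 1 = 0
  ex : ∀ u, y u ≠ 0 → ∃ (φ : L → ℂ) (n : ℤ), IsIrrCharacter L φ ∧ y u = (n : ℂ) • yL (os κ φ)
  un : ∀ (φ φ' : L → ℂ) (n n' : ℤ), IsIrrCharacter L φ → IsIrrCharacter L φ' → n ≠ 0 →
    (n : ℂ) • yL (os κ φ) = (n' : ℂ) • yL (os κ φ') → Cj κ φ φ'
  cnt : ∀ (φ : L → ℂ) (S : Set A) (n : ℕ), IsIrrCharacter L φ → (∀ a ∈ S, tL a ∈ _root_.Cfsg.Agent.MO.Om.Fix φ) → n ≠ 0 →
    Nat.card {u // Pm (y u) ((n : ℂ) • yL (os κ φ)) ∧ ∀ a ∈ S, fx u a} =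
      Nat.card {ψ : IrrCharacter M // ψ.1 ∘ κ = (n : ℂ) • os κ φ ∧ ∀ a ∈ S, t a ∈ _root_.Cfsg.Agent.MO.Om.Fix ψ.1}

namespace Hy

variable {U X A : Type} {y : U → X → ℂ} {yL : (L → ℂ) →ₗ[ℂ] X → ℂ} {t : A → Tw M} {tL : A → Tw L} {fx : U → A → Prop}
  [Finite L] [Finite M] (H : Hy κ y yL t tL fx)

include H

omit [Finite M] in
theorem ne' {φ : L → ℂ} (hφ : IsIrrCharacter L φ) : yL (os κ φ) ≠ 0 := fun e => os_one_ne hφ (H.ne _ e)

theorem res_iff {φ : L → ℂ} (hφ : IsIrrCharacter L φ) {n : ℕ} {ψ : M → ℂ} (hψ : IsIrrCharacter M ψ) :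
    Pm (yL (ψ ∘ κ)) ((n : ℂ) • yL (os κ φ)) ↔ ψ ∘ κ = (n : ℂ) • os κ φ := by
  refine ⟨fun h => ?_, fun h => .inl (by rw [h, map_smul])⟩
  obtain ⟨μ, hμ, ho⟩ := exists_under (f := κ) hψ
  obtain ⟨e, he, h1⟩ := cliff H.inj H.nrm hψ hμ ho
  obtain ⟨k, hk, h2⟩ : ∃ k : ℤ, k.natAbs = n ∧ ((e : ℤ) : ℂ) • yL (os κ μ) = (k : ℂ) • yL (os κ φ) := by
    rw [h1, map_smul] at h
    exact h.elim (fun h => ⟨n, rfl, h⟩) fun h => ⟨-n, by simp, by simpa using h⟩
  have h3 := (H.un _ _ _ _ hμ hφ (by omega) h2).os_eq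
  rw [h3] at h1 h2
  have h4 : (e : ℤ) = k := Int.cast_injective (smul_left_injective ℂ (H.ne' hφ) h2)
  rw [h1, show e = n by omega]

/-- **the bijection** -/
theorem bij [Finite U] : ∃ b : {u // y u ≠ 0} ≃ IrrCharacter M,
    ∀ u : {u // y u ≠ 0}, Pm (y u) (yL ((b u).1 ∘ κ)) ∧ ∀ a, t a ∈ _root_.Cfsg.Agent.MO.Om.Fix (b u).1 ↔ fx u a := by
  have := finite_irr (G := M)
  have key : ∀ (φ : L → ℂ) (S : Set A) (n : ℕ), IsIrrCharacter L φ → (∀ a ∈ S, Cj κ φ ((tL a).act φ)) → n ≠ 0 →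
      Nat.card {u : {u // y u ≠ 0} // ({y u, -y u} : Set _) = {(n : ℂ) • yL (os κ φ), -((n : ℂ) • yL (os κ φ))} ∧
        ∀ a ∈ S, fx u a} = Nat.card {ψ : IrrCharacter M // ({yL (ψ.1 ∘ κ), -yL (ψ.1 ∘ κ)} : Set _) =
          {(n : ℂ) • yL (os κ φ), -((n : ℂ) • yL (os κ φ))} ∧ ∀ a ∈ S, t a ∈ _root_.Cfsg.Agent.MO.Om.Fix ψ.1} := fun φ S n hφ hS hn => by
    have h1 : ∀ a : S, ∃ a', tL a' ∈ _root_.Cfsg.Agent.MO.Om.Fix φ ∧ (∀ u, fx u a' ↔ fx u a) ∧
        ∀ ψ : IrrCharacter M, t a' ∈ _root_.Cfsg.Agent.MO.Om.Fix ψ.1 ↔ t a ∈ _root_.Cfsg.Agent.MO.Om.Fix ψ.1 := fun a => by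
      obtain ⟨m, b, h1, h2⟩ := (Cj.act (H.rl a).inv (hS a a.2)).symm
      obtain ⟨a', h3, h4⟩ := H.cl a m
      refine ⟨a', ?_, h4, fun ψ => h3 ▸ mul_mem_cancel_left (inn_mem (isIrr_isClassFunction ψ.2) _)⟩
      rw [inv_act] at h2
      rw [(H.rl a').uniq H.inj (h3 ▸ h1.mul (H.rl a))]
      exact (Tw.act_mul _ _ _).trans (h2 ▸ act_inv _ _)
    choose s h2 h3 h4 using h1
    have h5 := H.cnt φ (Set.range s) n hφ (fun _ ⟨a, e⟩ => e ▸ h2 a) hn
    simp only [Set.forall_mem_range, h3, h4, Subtype.forall] at h5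
    simp only [pm_iff]
    refine Eq.trans (Nat.card_congr (Equiv.subtypeSubtypeEquivSubtype
      (q := fun u => Pm (y u) ((n : ℂ) • yL (os κ φ)) ∧ ∀ a ∈ S, fx u a) fun h e => ?_))
      (h5.trans (Nat.card_congr (Equiv.subtypeEquivRight fun ψ => and_congr_left' (H.res_iff hφ ψ.2).symm)))
    exact smul_ne_zero (Nat.cast_ne_zero.2 hn) (H.ne' hφ) (h.1.elim (e ▸ Eq.symm) fun h => neg_eq_zero.1 (h ▸ e))
  obtain ⟨b, hb⟩ := exists_equiv (fun u : {u // y u ≠ 0} => ({y u, -y u} : Set _))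
    (fun ψ : IrrCharacter M => ({yL (ψ.1 ∘ κ), -yL (ψ.1 ∘ κ)} : Set _)) (fun u a => fx u a) (fun ψ a => t a ∈ _root_.Cfsg.Agent.MO.Om.Fix ψ.1)
    fun τ S => by
      by_cases h1 : ∃ u : {u // y u ≠ 0}, ({y u, -y u} : Set _) = τ ∧ ∀ a ∈ S, fx u a
      · obtain ⟨u, rfl, h2⟩ := h1
        obtain ⟨φ, n, hφ, h3⟩ := H.ex u u.2
        have hn : n ≠ 0 := fun e => u.2 (by rw [h3, e, Int.cast_zero, zero_smul])
        rw [pm_iff.2 (show Pm (y u) ((n.natAbs : ℂ) • yL (os κ φ)) from (Int.natAbs_eq n).imp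
          (fun e => by rw [h3, ← Int.cast_natCast, ← e]) fun e => by
            rw [h3, ← neg_smul, ← Int.cast_natCast, ← Int.cast_neg, ← e])]
        refine key φ S _ hφ (fun a ha => H.un _ _ n n hφ (act_irr hφ _) hn ?_) (by omega)
        rw [← os_act (H.rl a) hφ, ← h3, ← map_smul, ← act_smul]
        exact H.eqv _ _ _ (h2 a ha) (by rw [map_smul, h3])
      by_cases h2 : ∃ ψ : IrrCharacter M, ({yL (ψ.1 ∘ κ), -yL (ψ.1 ∘ κ)} : Set _) = τ ∧ ∀ a ∈ S, t a ∈ _root_.Cfsg.Agent.MO.Om.Fix ψ.1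
      · obtain ⟨ψ, rfl, h2⟩ := h2
        obtain ⟨φ, hφ, ho⟩ := exists_under (f := κ) ψ.2
        obtain ⟨e, he, h3⟩ := cliff H.inj H.nrm ψ.2 hφ ho
        rw [h3, map_smul]
        refine key φ S _ hφ (fun a ha => cj_of_os hφ (act_irr hφ _) (Nat.cast_ne_zero.2 he.ne') (c := e) ?_) he.ne'
        rw [← os_act (H.rl a) hφ, ← act_smul, ← h3, ← (H.rl a).act, show (t a).act ψ.1 = ψ.1 from h2 a ha]
      · have := (isEmpty_subtype _).2 (not_exists.1 h1)
        have := (isEmpty_subtype _).2 (not_exists.1 h2)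
        rw [Nat.card_of_isEmpty, Nat.card_of_isEmpty]
  exact ⟨b, fun u => ⟨pm_iff.1 (hb u).1.symm, (hb u).2⟩⟩

end Hy

end Cfsg.Agent.MO.Cnt
end

-- part: MO/X/Abs
section
/-!
# MO/X: cross characteristic, types other than `A`: the abstract part of the master interface (helper86)

For `ι : L →* Gt` : `FixI`, `NM` (`M = N(L)`), `Sg`, `Ml` (stabiliser `M_λ`), `CjI`, `orb`, `IrQ`, `IrO`, `Ext`, `Clf`, `Cs`, `CntEq`,
`BetaEq`; boxes `BoxClf` (Clifford and Gallagher), `BoxPz` (counts give traces).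
-/

set_option autoImplicit false
set_option linter.unusedSectionVars false

namespace Cfsg.Agent.MO.X

open Cfsg Subgroup Cfsg.Agent.H672 Cfsg.Agent.MO.Om

section Abs

variable {Gt L : Type} [Group Gt] [Group L] (ι : L →* Gt)

/-- `a` fixes the function `lam` on `L` (used if `a.α` stabilises the image of `ι`) -/
def FixI (a : Om.Tw Gt) (lam : L → ℂ) : Prop := ∀ x x' : L, ι x' = a.α (ι x) → a.z (ι x) * lam x' = lam x

/-- the local subgroup `M = N(L)` -/
def NM : Subgroup Gt := normalizer (ι.range : Set Gt)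

/-- the stabiliser of `L` in a group of automorphisms -/
def Sg (A : Subgroup (MulAut Gt)) : Subgroup (MulAut Gt) where
  carrier := {σ | σ ∈ A ∧ ∀ t, σ t ∈ ι.range ↔ t ∈ ι.range}
  one_mem' := ⟨one_mem _, fun _ => Iff.rfl⟩
  mul_mem' h h' := ⟨mul_mem h.1 h'.1, fun t => (h.2 _).trans (h'.2 t)⟩
  inv_mem' {σ} h := ⟨inv_mem h.1, fun t => by rw [← h.2, MulAut.apply_inv_self]⟩

/-- `m` conjugates `lam` to `lam'` -/
def Cm (m : Gt) (lam lam' : L → ℂ) : Prop := ∀ x x' : L, ι x' = m * ι x * m⁻¹ → lam' x' = lam x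

theorem Cm.mul {m n : Gt} {a b c : L → ℂ} (h : Cm ι m b c) (h' : Cm ι n a b) (hn : n ∈ NM ι) : Cm ι (m * n) a c :=
  fun x x' e => by
    obtain ⟨y, hy⟩ := (mem_normalizer_iff.1 hn _).1 (⟨x, rfl⟩ : ι x ∈ ι.range)
    exact (h y x' (by rw [e, hy]; group)).trans (h' x y hy)

theorem Cm.inv {m : Gt} {a b : L → ℂ} (h : Cm ι m a b) : Cm ι m⁻¹ b a :=
  fun x x' e => (h x' x (by rw [e]; group)).symm

/-- the stabiliser `M_λ` (for injective `ι`) -/
def Ml (lam : L → ℂ) : Subgroup Gt where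
  carrier := {m | m ∈ NM ι ∧ (Function.Injective ι → Cm ι m lam lam)}
  one_mem' := ⟨one_mem _, fun h x x' e => by rw [h (show ι x' = ι x by rw [e]; group)]⟩
  mul_mem' h h' := ⟨mul_mem h.1 h'.1, fun i => (h.2 i).mul ι (h'.2 i) h'.1⟩
  inv_mem' h := ⟨inv_mem h.1, fun i => (h.2 i).inv ι⟩

/-- conjugate under `M` -/
def CjI (lam lam' : L → ℂ) : Prop := ∃ m ∈ NM ι, Cm ι m lam lam'

/-- the sum over the orbit under `M` -/
noncomputable def orb (lam : L → ℂ) : L → ℂ := ∑ᶠ lam' ∈ {lam' | CjI ι lam lam'}, lam'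

/-- the inclusion into `M` -/
def jM : L →* NM ι := ι.codRestrict _ fun x => le_normalizer ⟨x, rfl⟩

/-- the characters of `M_λ / L` -/
def IrQ (lam : L → ℂ) : Set (Ml ι lam → ℂ) :=
  {η | IsIrrCharacter _ η ∧ ∀ (x : L) (y : Ml ι lam), (y : Gt) = ι x → η y = η 1}

/-- the characters of `M` over `lam` -/
def IrO [Finite L] (lam : L → ℂ) : Set (NM ι → ℂ) := {ξ | IsIrrCharacter _ ξ ∧ Over (jM ι) ξ lam}

/-- an extension of `lam` to its stabiliser which is fixed by all admissible pairs which fix `lam` -/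
structure Ext (G : Subgroup Gt) (S : Set (MulAut Gt)) (lam : L → ℂ) (Θ : Ml ι lam → ℂ) : Prop where
  irr : IsIrrCharacter _ Θ
  res : ∀ (x : L) (y : Ml ι lam), (y : Gt) = ι x → Θ y = lam x
  fix : ∀ a, Adm G S a → FixI ι a lam → FixI (Ml ι lam).subtype a Θ

/-- the correspondence of Clifford and Gallagher -/
structure Clf [Finite L] (G : Subgroup Gt) (S : Set (MulAut Gt)) (lam : L → ℂ) (Θ : Ml ι lam → ℂ)
    (Ψ : (Ml ι lam → ℂ) → NM ι → ℂ) : Prop where
  bij : Set.BijOn Ψ (IrQ ι lam) (IrO ι lam)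
  deg : ∀ η ∈ IrQ ι lam, Ψ η 1 = (Ml ι lam).relIndex (NM ι) * lam 1 * η 1
  fix : ∀ η ∈ IrQ ι lam, ∀ a, Adm G S a → FixI ι a lam →
    (FixI (NM ι).subtype a (Ψ η) ↔ FixI (Ml ι lam).subtype (aut a.α) η)
  om : ∀ η ∈ IrQ ι lam, ∀ (a b : Om.Tw Gt) (a₁ b₁ : Om.Tw (NM ι)) (a₂ b₂ : Om.Tw (Ml ι lam)) (m₁ : NM ι) (m₂ : Ml ι lam),
    Adm G S a → Adm G S b → FixI ι a lam → FixI ι b lam → Rs _ a a₁ → Rs _ b b₁ → Rs _ a a₂ → Rs _ b b₂ →
    (m₁ : Gt) = m₂ → a * b * a⁻¹ * b⁻¹ = inn (m₁ : Gt) → OmT (Ψ η) a₁ b₁ m₁ = OmT Θ a₂ b₂ m₂ * OmT η (aut a₂.α) (aut b₂.α) m₂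

/-- the characters over `ω` which are fixed by `S` and whose degree is not divisible by `l ^ (j + 1)` -/
def Cs {H : Type} [Group H] (κ : H →* Gt) (l j : ℕ) (ω : Gt → ℂ) (S : Set (Om.Tw Gt)) : Set (H → ℂ) :=
  {χ | IsIrrCharacter H χ ∧ (∀ c, κ c ∈ center Gt → χ c = ω (κ c) * χ 1) ∧ ¬ l ^ (j + 1) ∣ charDegree χ ∧
    ∀ a ∈ S, FixI κ a χ}

variable (l : ℕ) (G M : Subgroup Gt) (E : Set (MulAut Gt))

/-- **the numbers of fixed characters agree** -/
def CntEq : Prop :=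
  ∀ (ω : Gt → ℂ) (S : Set (Om.Tw Gt)) (j : ℕ), (∀ a ∈ S, Adm G E a) → (∃ z, lin z ∈ S ∧ orderOf z = l ^ j) →
    (Cs (MonoidHom.id Gt) l j ω S).ncard = (Cs M.subtype l j ω S).ncard

/-- **the commutator traces are constant** -/
def BetaEq : Prop :=
  ∀ (ω : Gt → ℂ) (a b : Om.Tw Gt) (a' b' : Om.Tw M) (m : M), Adm G E a → Adm G E b → Rs M a a' → Rs M b b' →
    a * b * a⁻¹ * b⁻¹ = inn (m : Gt) → ∃ κ : ℂ,
      (∀ χ, IsIrrCharacter Gt χ → (∀ c ∈ center Gt, χ c = ω c * χ 1) → a ∈ Om.Fix χ → b ∈ Om.Fix χ → OmT χ a b m = κ) ∧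
      ∀ ξ, IsIrrCharacter M ξ → (∀ c : M, (c : Gt) ∈ center Gt → ξ c = ω c * ξ 1) → a' ∈ Om.Fix ξ → b' ∈ Om.Fix ξ →
        OmT ξ a' b' m = κ

end Abs

/-- **box Clf** (abstract) -/
def BoxClf : Prop :=
  ∀ (Gt L : Type) [Group Gt] [Finite Gt] [Group L] [Finite L] (ι : L →* Gt) (G : Subgroup Gt) (A : Subgroup (MulAut Gt))
    (lam : L → ℂ) (Θ : Ml ι lam → ℂ), Function.Injective ι → IsIrrCharacter L lam → Ext ι G (Sg ι A) lam Θ →
    ∃ Ψ, Clf ι G (Sg ι A) lam Θ Ψ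

/-- **box Pz** (abstract): counts give traces -/
def BoxPz (l : ℕ) : Prop :=
  ∀ (Gt : Type) [Group Gt] [Finite Gt] (G M : Subgroup Gt) (S : Subgroup (MulAut Gt)) (X : Type) [Group X] (π : G →* X)
    (Γ : Subgroup (MulAut X)), Om.Fr l G M S S π Γ → CntEq l G M S → BetaEq G M S → TrEq l G M S

end Cfsg.Agent.MO.X
end

-- part: MO/Lc/Abs
section
/-!
# MO/Lc: extension of invariant characters (helper53)

* `exists_lin` : a linear character of `C` which kills the preimage of the derived group of `E` extends along `C →* E`;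
* `PP` : the pairs (element, intertwining operator); `ext_of_lin`, `ext_of_der` : the criterion for an extension;
* `ext_of_om` : abelian by cyclic quotient, all commutator traces are `1`;
* `ext_baer` : gluing of an extension with a linear character of a supplement.
-/

set_option autoImplicit false
set_option maxHeartbeats 400000

namespace Cfsg.Agent.MO.Lc

open Cfsg Subgroup Representation Module
open Cfsg.Agent.Characters.Core Cfsg.Agent.MO.B

section grp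

theorem exists_lin_comm {A B : Type} [CommGroup A] [CommGroup B] (i : A →* B) (hi : Function.Injective i) (f : A →* ℂˣ) :
    ∃ g : B →* ℂˣ, ∀ a, g (i a) = f a := by
  let : DivisibleBy (Additive ℂˣ) ℕ := divisibleByOfSMulRightSurj _ _ fun {n} hn a => by
    obtain ⟨b, hb⟩ := IsAlgClosed.exists_pow_nat_eq (a.toMul : ℂ) (Nat.pos_of_ne_zero hn)
    have h0 : b ≠ 0 := by
      rintro rfl
      rw [zero_pow hn] at hb
      exact a.toMul.ne_zero hb.symm
    exact ⟨Additive.ofMul (Units.mk0 b h0), Additive.toMul.injective (Units.ext hb)⟩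
  let : DivisibleBy (Additive ℂˣ) ℤ := AddGroup.divisibleByIntOfDivisibleByNat _
  obtain ⟨g, hg⟩ := (Module.Baer.of_divisible (Additive ℂˣ)).extension_property_addMonoidHom
    (MonoidHom.toAdditive i) hi (MonoidHom.toAdditive f)
  exact ⟨MonoidHom.toAdditive.symm g, fun a => congrArg Additive.toMul (DFunLike.congr_fun hg (Additive.ofMul a))⟩

theorem exists_fac {A B C : Type} [Group A] [Group B] [Group C] (f : A →* B) (hf : Function.Surjective f) (g : A →* C)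
    (h : f.ker ≤ g.ker) : ∃ φ : B →* C, ∀ a, φ (f a) = g a :=
  ⟨f.liftOfSurjective hf ⟨g, h⟩, f.liftOfRightInverse_comp_apply _ (Function.rightInverse_surjInv hf) ⟨g, h⟩⟩

/-- **extension of linear characters** -/
theorem exists_lin {C E : Type} [Group C] [Group E] (i : C →* E) (f : C →* ℂˣ)
    (h : ∀ c, i c ∈ commutator E → f c = 1) : ∃ g : E →* ℂˣ, ∀ c, g (i c) = f c := by
  let j : C →* Abelianization E := Abelianization.of.comp i
  have hs := j.rangeRestrict_surjective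
  have hk : j.rangeRestrict.ker ≤ f.ker := fun c hc =>
    h c (Abelianization.ker_of E ▸ (congrArg Subtype.val hc : j c = 1))
  obtain ⟨f', hf⟩ := exists_fac _ hs f hk
  obtain ⟨g, hg⟩ := exists_lin_comm j.range.subtype Subtype.val_injective f'
  exact ⟨g.comp Abelianization.of, fun c => (hg (j.rangeRestrict c)).trans (hf c)⟩

/-- the derived group of an abelian by cyclic group -/
theorem der_cyc {E : Type} [Group E] (A : Subgroup E) [hn : A.Normal] (hA : ∀ a ∈ A, ∀ b ∈ A, a * b = b * a) (g : E)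
    (hg : ∀ x, ∃ a ∈ A, ∃ n : ℤ, x = a * g ^ n) {c : E} (hc : c ∈ commutator E) : ∃ a ∈ A, c = g * a * g⁻¹ * a⁻¹ := by
  let D : Subgroup E :=
    { carrier := {c | ∃ a ∈ A, c = g * a * g⁻¹ * a⁻¹}
      one_mem' := ⟨1, one_mem _, by group⟩
      mul_mem' := by
        rintro _ _ ⟨a, ha, rfl⟩ ⟨b, hb, rfl⟩
        refine ⟨a * b, mul_mem ha hb, ?_⟩
        rw [mul_assoc _ a⁻¹, hA _ (inv_mem ha) _ (mul_mem (hn.conj_mem b hb g) (inv_mem hb))]
        group
      inv_mem' := by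
        rintro _ ⟨a, ha, rfl⟩
        refine ⟨a⁻¹, inv_mem ha, ?_⟩
        rw [inv_inv, hA _ (hn.conj_mem _ (inv_mem ha) g) _ ha]
        group }
  have h1 : ∀ x, ∀ d ∈ D, x * d * x⁻¹ ∈ D := by
    rintro x _ ⟨b, hb, rfl⟩
    obtain ⟨a, ha, n, rfl⟩ := hg x
    refine ⟨g ^ n * b * (g ^ n)⁻¹, hn.conj_mem b hb _, ?_⟩
    have h2 := hn.conj_mem b hb (g ^ n)
    rw [eq_mul_inv_of_mul_eq (hA a ha _ (mul_mem (hn.conj_mem _ h2 g) (inv_mem h2))).symm]
    group
  have : D.Normal := ⟨fun d hd x => h1 x d hd⟩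
  let π := QuotientGroup.mk' D
  have h2 : ∀ a ∈ A, Commute (π g) (π a) := fun a ha => by
    rw [← commutatorElement_eq_one_iff_commute, ← map_commutatorElement]
    exact (QuotientGroup.eq_one_iff _).2 ⟨a, ha, rfl⟩
  refine (commutator_le (H₁ := ⊤) (H₂ := ⊤) (H₃ := D)).2 (fun x _ y _ => ?_) hc
  refine (QuotientGroup.eq_one_iff _).1 (show π _ = 1 from ?_)
  obtain ⟨a, ha, n, rfl⟩ := hg x
  obtain ⟨b, hb, m, rfl⟩ := hg y
  rw [map_commutatorElement, commutatorElement_eq_one_iff_commute, map_mul, map_mul, map_zpow, map_zpow]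
  exact Commute.mul_left (Commute.mul_right (Commute.map (hA a ha b hb) π) ((h2 a ha).symm.zpow_right m))
    (Commute.mul_right ((h2 b hb).zpow_left n) ((Commute.refl _).zpow_zpow n m))

end grp

variable {L K : Type} [Group L] [Group K] {n : ℕ}

/-- scalars -/
noncomputable def sc (n : ℕ) : ℂˣ →* (End ℂ (Fin n → ℂ))ˣ := Units.map (algebraMap ℂ (End ℂ (Fin n → ℂ))).toMonoidHom

theorem sc_val (s : ℂˣ) : (sc n s).val = (s : ℂ) • (1 : End ℂ (Fin n → ℂ)) := Algebra.algebraMap_eq_smul_one _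

theorem sc_comm (s : ℂˣ) (T : (End ℂ (Fin n → ℂ))ˣ) : sc n s * T = T * sc n s := Units.ext (Algebra.commutes _ _)

theorem tr_sc (s : ℂˣ) (T : (End ℂ (Fin n → ℂ))ˣ) :
    LinearMap.trace ℂ _ (sc n s * T).val = s * LinearMap.trace ℂ _ T.val := by
  simp only [Units.val_mul, sc_val, smul_mul_assoc, one_mul, map_smul, smul_eq_mul]

/-- Schur's lemma -/
theorem exists_sc {ρ : Representation ℂ L (Fin n → ℂ)} (hρ : ρ.IsIrreducible) {T : (End ℂ (Fin n → ℂ))ˣ}
    (h : ∀ u, T * ρ.asGroupHom u = ρ.asGroupHom u * T) : ∃ s, T = sc n s := by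
  obtain ⟨s, hs⟩ := CharactersDeep.IrrEquiv.exists_commute_scalar ρ hρ T.val fun u => congrArg Units.val (h u)
  have h0 : s ≠ 0 := by
    rintro rfl
    have h1 : ρ.character 1 = 0 := by
      rw [character, map_one, ← T.mul_inv, hs, zero_smul, zero_mul, map_zero]
    exact isIrr_apply_one_ne_zero ⟨n, ρ, hρ, rfl⟩ h1
  exact ⟨Units.mk0 s h0, Units.ext (hs.trans (sc_val (Units.mk0 s h0)).symm)⟩

/-- the pairs (element, intertwining operator) -/
def PP (ρ : Representation ℂ L (Fin n → ℂ)) (act : K →* MulAut L) : Subgroup (K × (End ℂ (Fin n → ℂ))ˣ) where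
  carrier := {x | ∀ u, x.2 * ρ.asGroupHom u = ρ.asGroupHom (act x.1 u) * x.2}
  one_mem' u := by simp
  mul_mem' {a b} ha hb u := by
    rw [Prod.snd_mul, Prod.fst_mul, map_mul, MulAut.mul_apply, mul_assoc, hb, ← mul_assoc, ha, mul_assoc]
  inv_mem' {a} ha u := by
    rw [Prod.snd_inv, Prod.fst_inv, map_inv, inv_mul_eq_iff_eq_mul, ← mul_assoc, ha, MulAut.apply_inv_self,
      mul_inv_cancel_right]

/-- a group `K` with a normal subgroup `L` -/
structure Nl (ι : L →* K) (act : K →* MulAut L) : Prop where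
  inj : Function.Injective ι
  cj : ∀ k u, k * ι u * k⁻¹ = ι (act k u)

variable {ι : L →* K} {act : K →* MulAut L} {ρ : Representation ℂ L (Fin n → ℂ)}

theorem Nl.act_ι (h : Nl ι act) (l u : L) : act (ι l) u = l * u * l⁻¹ :=
  h.inj (by rw [← h.cj, map_mul, map_mul, map_inv])

theorem nl_sub (N : Subgroup K) [N.Normal] : Nl N.subtype (MulAut.conjNormal (H := N)) :=
  ⟨Subtype.val_injective, fun _ _ => rfl⟩

/-- the pairs over `L` -/
noncomputable def Nl.io (h : Nl ι act) (ρ : Representation ℂ L (Fin n → ℂ)) : L × ℂˣ →* PP ρ act :=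
  ((ι.comp (MonoidHom.fst _ _)).prod (ρ.asGroupHom.noncommCoprod (sc n) fun _ _ => (sc_comm _ _).symm)).codRestrict _
    fun x u => by
      change ρ.asGroupHom x.1 * sc n x.2 * _ = ρ.asGroupHom (act (ι x.1) u) * (ρ.asGroupHom x.1 * sc n x.2)
      rw [h.act_ι, mul_assoc, sc_comm, ← mul_assoc, ← mul_assoc, ← map_mul, ← map_mul, inv_mul_cancel_right]

theorem Nl.io_val (h : Nl ι act) (l : L) (s : ℂˣ) : (h.io ρ (l, s)).1 = (ι l, ρ.asGroupHom l * sc n s) := rfl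

theorem Nl.exists_io (h : Nl ι act) (hρ : ρ.IsIrreducible) {x : PP ρ act} {l : L} (e : x.1.1 = ι l) :
    ∃ s, x = h.io ρ (l, s) := by
  obtain ⟨s, hs⟩ := exists_sc hρ (T := (ρ.asGroupHom l)⁻¹ * x.1.2) fun u => by
    rw [mul_assoc, x.2 u, e, h.act_ι, map_mul, map_mul, map_inv]
    group
  exact ⟨s, Subtype.ext (Prod.ext e (by rw [h.io_val, ← hs, mul_inv_cancel_left]))⟩

theorem pp_surj [Finite L] (hρ : ρ.IsIrreducible) (hi : ∀ k u, ρ.character (act k u) = ρ.character u) :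
    Function.Surjective ((MonoidHom.fst _ _).comp (PP ρ act).subtype) := fun k =>
  let ⟨T, hT⟩ := exists_itw ρ hρ (act k).toMonoidHom (hi k)
  ⟨⟨(k, T), hT⟩, rfl⟩

theorem ext_of_lin [Finite L] (h : Nl ι act) (hρ : ρ.IsIrreducible) (hi : ∀ k u, ρ.character (act k u) = ρ.character u)
    (φ : PP ρ act →* ℂˣ) (hφ : ∀ l s, φ (h.io ρ (l, s)) = s) :
    ∃ τ : Representation ℂ K (Fin n → ℂ), ∀ l, τ (ι l) = ρ l := by
  let ψ : PP ρ act →* (End ℂ (Fin n → ℂ))ˣ := MonoidHom.mk' (fun x => x.1.2 * sc n (φ x)⁻¹) fun x y => by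
    simp only [map_mul, mul_inv, map_mul, Subgroup.coe_mul, Prod.snd_mul, mul_assoc, mul_assoc, ← mul_assoc (sc n _), sc_comm _ y.1.2,
      mul_assoc]
  have h1 : ∀ l s, ψ (h.io ρ (l, s)) = ρ.asGroupHom l := fun l s => by
    change ρ.asGroupHom l * sc n s * sc n (φ _)⁻¹ = _
    rw [hφ, map_inv, mul_inv_cancel_right]
  have hs := pp_surj hρ hi
  have hk : ((MonoidHom.fst _ _).comp (PP ρ act).subtype).ker ≤ ψ.ker := fun x hx => by
    obtain ⟨s, rfl⟩ := h.exists_io hρ (x := x) (l := 1) (hx.trans (map_one ι).symm)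
    exact (h1 1 s).trans (map_one _)
  obtain ⟨τ, hτ⟩ := exists_fac _ hs ψ hk
  exact ⟨(Units.coeHom _).comp τ, fun l => congrArg Units.val ((hτ (h.io ρ (l, 1))).trans (h1 l 1))⟩

/-- **the criterion** -/
theorem ext_of_der [Finite L] (h : Nl ι act) (hρ : ρ.IsIrreducible) (hi : ∀ k u, ρ.character (act k u) = ρ.character u)
    (hd : ∀ l s, h.io ρ (l, s) ∈ commutator (PP ρ act) → s = 1) :
    ∃ τ : Representation ℂ K (Fin n → ℂ), ∀ l, τ (ι l) = ρ l :=
  let ⟨φ, hφ⟩ := exists_lin (h.io ρ) (MonoidHom.snd _ _) fun c => hd c.1 c.2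
  ext_of_lin h hρ hi φ fun l s => hφ (l, s)

/-- the scalar of a commutator is the inverse of the commutator trace -/
theorem Nl.om [Finite L] (h : Nl ι act) (hρ : ρ.IsIrreducible) {x y : PP ρ act} {m : L} {s : ℂˣ}
    (e : x * y * x⁻¹ * y⁻¹ = h.io ρ (m, s)) : s * Om ρ.character (act x.1.1) (act y.1.1) m = 1 := by
  refine om_wit (Ψ := Representation.character (Units.coeHom (End ℂ (Fin n → ℂ)))) (j := ρ.asGroupHom) ⟨n, _, rfl⟩
    ⟨n, ρ, hρ, rfl⟩ (fun _ => rfl) x.2 y.2 fun d => ?_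
  have h1 : x.1.2 * y.1.2 * x.1.2⁻¹ * y.1.2⁻¹ = ρ.asGroupHom m * sc n s := congrArg (fun z : PP ρ act => z.1.2) e
  rw [h1, ← sc_comm, mul_assoc, ← map_mul]
  exact tr_sc _ _

/-- **abelian by cyclic quotient** -/
theorem ext_of_om [Finite L] (h : Nl ι act) {ξ : L → ℂ} (hξ : IsIrrCharacter L ξ) (hi : ∀ k u, ξ (act k u) = ξ u)
    (A : Subgroup K) [A.Normal] (g : K) (hg : ∀ x, ∃ a ∈ A, ∃ j : ℤ, x = a * g ^ j)
    (hA : ∀ a ∈ A, ∀ b ∈ A, ∃ m, a * b * a⁻¹ * b⁻¹ = ι m ∧ Om ξ (act a) (act b) m = 1)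
    (hc : ∀ a ∈ A, ∀ m, g * a * g⁻¹ * a⁻¹ = ι m → Om ξ (act g) (act a) m = 1) :
    ∃ Ψ, IsCharacter K Ψ ∧ ∀ l, Ψ (ι l) = ξ l := by
  obtain ⟨n, ρ, hρ, rfl⟩ := hξ
  let pr : PP ρ act →* K := (MonoidHom.fst _ _).comp (PP ρ act).subtype
  let N : Subgroup (PP ρ act) := ((h.io ρ).comp (MonoidHom.inl _ _)).range
  have : N.Normal := ⟨by
    rintro _ ⟨l, rfl⟩ x
    refine ⟨act x.1.1 l, Subtype.ext (Prod.ext (h.cj _ _).symm ?_)⟩
    change ρ.asGroupHom (act x.1.1 l) * sc n 1 = x.1.2 * (ρ.asGroupHom l * sc n 1) * x.1.2⁻¹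
    rw [map_one, mul_one, mul_one, x.2, mul_inv_cancel_right]⟩
  let π := QuotientGroup.mk' N
  have k1 : ∀ x y : PP ρ act, ∀ m, pr x * pr y * (pr x)⁻¹ * (pr y)⁻¹ = ι m → Om ρ.character (act (pr x)) (act (pr y)) m = 1 →
      π (x * y * x⁻¹ * y⁻¹) = 1 := fun x y m e ho => by
    obtain ⟨s, hs⟩ := h.exists_io hρ (x := x * y * x⁻¹ * y⁻¹) e
    have h1 := h.om hρ hs
    rw [show Om _ (act x.1.1) (act y.1.1) m = 1 from ho, mul_one, Units.val_eq_one] at h1
    exact (QuotientGroup.eq_one_iff _).2 ⟨m, by rw [hs, h1]; rfl⟩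
  obtain ⟨g', rfl⟩ : ∃ g', pr g' = g := pp_surj hρ hi g
  have : ((A.comap pr).map π).Normal := Normal.map inferInstance _ (QuotientGroup.mk'_surjective N)
  obtain ⟨τ, hτ⟩ := ext_of_der h hρ hi fun l s hs => by
    obtain ⟨_, ⟨a, ha, rfl⟩, e⟩ := der_cyc ((A.comap pr).map π) (by
      rintro _ ⟨a, ha, rfl⟩ _ ⟨b, hb, rfl⟩
      obtain ⟨m, h1, h2⟩ := hA _ ha _ hb
      have h3 := k1 a b m h1 h2
      (simp +singlePass only [map_mul] at h3; simp +singlePass only [map_mul] at h3; simp only [map_mul] at h3; (conv at h3 => enter [@2, @5, @6]; rw [map_inv]); simp only [map_inv] at h3; rewrite [mul_inv_eq_one, mul_inv_eq_iff_eq_mul] at h3; assumption)) (π g') (by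
      intro x
      obtain ⟨x, rfl⟩ := QuotientGroup.mk'_surjective N x
      obtain ⟨a, ha, j, e⟩ := hg (pr x)
      refine ⟨π (x * (g' ^ j)⁻¹), ⟨_, ?_, rfl⟩, j, ?_⟩
      · rwa [SetLike.mem_coe, mem_comap, map_mul, map_inv, map_zpow, e, mul_inv_cancel_right]
      · (simp only [← map_zpow]; simp only [← map_mul]; simp only [inv_mul_cancel_right]; with_reducible rfl)) (c := π (h.io ρ (l, s))) (by
      have h1 := mem_map_of_mem π hs
      simp only [commutator_def, map_commutator] at h1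
      exact commutator_mono le_top le_top h1)
    simp only [← map_inv, ← map_inv, ← map_mul, ← map_mul, ← map_mul] at e
    obtain ⟨l', e'⟩ := QuotientGroup.eq.1 e
    have e1 : g' * a * g'⁻¹ * a⁻¹ = h.io ρ (l * l', s) := by
      rw [← inv_mul_cancel_left (h.io ρ (l, s))⁻¹ (g' * a * g'⁻¹ * a⁻¹), ← e', inv_inv, MonoidHom.comp_apply, ← map_mul]
      simp
    have h1 := h.om hρ e1
    rwa [show Om _ (act g'.1.1) (act a.1.1) (l * l') = 1 from hc _ ha _ (congrArg pr e1), mul_one, Units.val_eq_one] at h1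
  exact ⟨τ.character, ⟨n, τ, rfl⟩, fun l => congrArg (LinearMap.trace ℂ _) (hτ l)⟩

/-- **gluing** : `M = L V`; the character extends to a group `K` in which `V` acts in the same way, and `Θ` repairs the
values on `L ⊓ V` -/
theorem ext_baer [Finite L] {M V : Type} [Group M] [Group V] {κ : L →* M} {j : V →* M} {σ : V →* K} {ac : V →* MulAut L}
    (hκ : Function.Injective κ) (hM : ∀ m, ∃ l v, m = κ l * j v) (hj : ∀ v l, j v * κ l * (j v)⁻¹ = κ (ac v l))
    (hσ : ∀ v l, σ v * ι l * (σ v)⁻¹ = ι (ac v l)) {Φ : K → ℂ} (hΦ : IsCharacter K Φ)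
    (hξ : IsIrrCharacter L fun l => Φ (ι l)) (Θ : V →* ℂˣ)
    (hc : ∀ v l, j v = κ l → ∀ x, Φ (ι (l * x)) = Θ v * Φ (σ v * ι x)) :
    ∃ Ψ, IsCharacter M Ψ ∧ ∀ l v, Ψ (κ l * j v) = Θ v * Φ (ι l * σ v) := by
  obtain ⟨n, τ, rfl⟩ := hΦ
  have hρ : Representation.IsIrreducible (τ.comp ι : Representation ℂ L _) := isIrreducible_of_isIrrCharacter _ hξ
  let f : L ⋊[ac] V →* M := SemidirectProduct.lift κ j fun v => MonoidHom.ext fun l => (hj v l).symm
  let T : V →* (End ℂ (Fin n → ℂ))ˣ := MonoidHom.mk' (fun v => sc n (Θ v) * τ.asGroupHom (σ v)) fun x y => by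
    rw [map_mul, map_mul, map_mul, map_mul, mul_assoc, mul_assoc, ← mul_assoc (τ.asGroupHom _), ← sc_comm, mul_assoc]
  have hT : ∀ v, T v = sc n (Θ v) * τ.asGroupHom (σ v) := fun _ => rfl
  let ψ : L ⋊[ac] V →* (End ℂ (Fin n → ℂ))ˣ := SemidirectProduct.lift (τ.asGroupHom.comp ι) T fun v =>
    MonoidHom.ext fun l => by
      change τ.asGroupHom (ι (ac v l)) = T v * τ.asGroupHom (ι l) * (T v)⁻¹
      rw [← hσ, hT, eq_mul_inv_iff_mul_eq, map_mul, map_mul, map_inv, mul_assoc (sc n _), sc_comm, sc_comm]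
      group
  have hs : Function.Surjective f := fun m => let ⟨l, v, e⟩ := hM m; ⟨⟨l, v⟩, e.symm⟩
  have hk : f.ker ≤ ψ.ker := fun x hx => by
    have h1 : j x.right = κ x.left⁻¹ := by rw [map_inv]; exact eq_inv_of_mul_eq_one_right hx
    obtain ⟨s, hs⟩ := exists_sc hρ (T := ψ x) fun u => by
      have h2 : x * SemidirectProduct.inl u = SemidirectProduct.inl u * x := by
        refine SemidirectProduct.ext (hκ ?_) (by simp)
        simp only [SemidirectProduct.mul_left, SemidirectProduct.left_inl, SemidirectProduct.right_inl, map_one,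
          MulAut.one_apply, map_mul]
        rw [← hj, h1, map_inv]
        group
      have h3 : ψ (SemidirectProduct.inl u) = asGroupHom (τ.comp ι : Representation ℂ L _) u :=
        (SemidirectProduct.lift_inl _ _ _ u).trans (Units.ext rfl)
      exact (congrArg (ψ x * ·) h3).symm.trans ((map_mul ψ _ _).symm.trans ((congrArg ψ h2).trans
        ((map_mul ψ _ _).trans (congrArg (· * ψ x) h3))))
    have h2 := hc _ _ h1 x.left
    have h3 : ψ x = sc n (Θ x.right) * τ.asGroupHom (ι x.left * σ x.right) := by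
      change τ.asGroupHom (ι x.left) * T x.right = _
      rw [hT, map_mul, ← mul_assoc, ← sc_comm, mul_assoc]
    have h4 := congrArg (fun T : (End ℂ (Fin n → ℂ))ˣ => LinearMap.trace ℂ _ T.val) (h3.symm.trans (hs.trans (mul_one _).symm))
    simp only [tr_sc] at h4
    rw [inv_mul_cancel, map_one, ← char_mul_comm] at h2
    have h5 : (s : ℂ) * τ.character 1 = 1 * τ.character 1 := by
      rw [one_mul]
      refine Eq.trans ?_ h2.symm
      rw [character, map_one]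
      exact h4.symm
    have h0 : τ.character 1 ≠ 0 := by simpa only [_root_.Representation.char_one, _root_.Module.finrank_fintype_fun_eq_card, _root_.Fintype.card_fin, _root_.ne_eq, _root_.Nat.cast_eq_zero, _root_.map_one] using isIrr_apply_one_ne_zero hξ
    rw [MonoidHom.mem_ker, hs, Units.val_eq_one.1 (mul_right_cancel₀ h0 h5), map_one]
  obtain ⟨φ, hφ⟩ := exists_fac f hs ψ hk
  refine ⟨_, ⟨n, (Units.coeHom _).comp φ, rfl⟩, fun l v => ?_⟩
  have h1 : φ (κ l * j v) = τ.asGroupHom (ι l) * T v := hφ ⟨l, v⟩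
  change LinearMap.trace ℂ _ (φ (κ l * j v)).val = _
  rw [h1, hT, ← mul_assoc, ← sc_comm, mul_assoc, ← map_mul, tr_sc]
  rfl

end Cfsg.Agent.MO.Lc
end

-- part: MO/Lc/Tw
section
/-!
# MO/Lc: the invariant extension of a character of a Levi subgroup (helper53)

* `exists_lin_z` : central extensions of groups which are abelian by a group with cyclic Sylow subgroups;
* `Nt` : the action of a group `B` (Tits lifts and field automorphisms) on `L`; `Og` : the admissible pairs which fix `ξ`;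
* `Nt.exists_it` : multiplicative intertwining operators, if the traces of the honest commuting pairs are `1` (`Hon`);
* `Sup` : `M = L V`; `ext_tw` : the extension to the inertia group, fixed by all admissible pairs, with traces `1`.
-/

set_option autoImplicit false
set_option maxHeartbeats 400000

namespace Cfsg.Agent.MO.Lc

open Cfsg Subgroup
open Cfsg.Agent.Characters.Core Cfsg.Agent.MO.Om Cfsg.Agent.MO.A.RS

/-- **abelian by a `Z`-group** -/
theorem exists_lin_z {N Q : Type} [Group N] [Group Q] [Finite Q] [IsZGroup Q] (π : N →* Q) (s : ℂˣ →* N)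
    (hc : ∀ c w, w * s c = s c * w) (hπ : ∀ c, π (s c) = 1) (hA : ∀ a b, π a = 1 → π b = 1 → a * b = b * a)
    (h : ∀ x y c, x * y * x⁻¹ * y⁻¹ = s c → c = 1) : ∃ φ : N →* ℂˣ, ∀ c, φ (s c) = c := by
  refine exists_lin s (MonoidHom.id _) fun c hcc => ?_
  by_contra h1
  obtain ⟨p, hp, hd⟩ := Nat.exists_prime_and_dvd (n := orderOf c) fun e => h1 (orderOf_eq_one_iff.1 e)
  have := Fact.mk hp
  let P : Sylow p π.range := default
  let H : Subgroup N := (P : Subgroup π.range).comap π.rangeRestrict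
  have hi : H.index = (P : Subgroup π.range).index := index_comap_of_surjective _ π.rangeRestrict_surjective
  have : H.FiniteIndex := ⟨hi ▸ FiniteIndex.index_ne_zero⟩
  have hs : ∀ c, s c ∈ H := fun c => by
    rw [mem_comap, show π.rangeRestrict (s c) = 1 from Subtype.ext (hπ c)]
    exact one_mem _
  obtain ⟨⟨⟨_, g, rfl⟩, hg⟩, hgen⟩ := IsCyclic.exists_generator (α := P)
  obtain ⟨φ, hφ⟩ := exists_lin (s.codRestrict H hs) (MonoidHom.id _) fun c hcc => by
    obtain ⟨a, -, e⟩ := der_cyc (π.comp H.subtype).ker (fun a ha b hb => Subtype.ext (hA _ _ ha hb)) ⟨g, hg⟩ (fun x => by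
      obtain ⟨n, hn⟩ := hgen ⟨π.rangeRestrict x, x.2⟩
      have e : π g ^ n = π x := congrArg (fun z : P => (z.1.1 : Q)) hn
      refine ⟨x * (⟨g, hg⟩ ^ n)⁻¹, ?_, n, (inv_mul_cancel_right _ _).symm⟩
      rw [MonoidHom.mem_ker, map_mul, map_inv, map_zpow, mul_inv_eq_one]
      exact e.symm) hcc
    exact h g a c (congrArg Subtype.val e).symm
  have h2 := MonoidHom.transfer_eq_pow φ (s c) fun k g _ => by
    rw [← map_pow, hc, inv_mul_cancel_right]
  have h3 : MonoidHom.transfer φ (s c) = 1 := Abelianization.commutator_subset_ker _ hcc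
  have h4 : c ^ H.index = 1 := by
    rw [← h3, h2]
    exact ((hφ _).symm.trans (congrArg φ (Subtype.ext (map_pow s c _))))
  exact P.not_dvd_index (hi ▸ hd.trans (orderOf_dvd_of_pow_eq_one h4))

theorem exists_gen {G Q : Type} [Group G] [Group Q] [Finite Q] [IsZGroup Q] (π : G →* Q) {x y : G} (h : Commute (π x) (π y)) :
    ∃ g ∈ _root_.Subgroup.closure {x, y}, ∃ m n : ℤ, π x = π g ^ m ∧ π y = π g ^ n := by
  let K : Subgroup Q := (_root_.Subgroup.closure {x, y}).map π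
  have hK : K = _root_.Subgroup.closure {π x, π y} := by rw [← Set.image_pair, ← MonoidHom.map_closure]
  let _ : CommGroup K := ⟨fun a b => Subtype.ext (by
    have := (Subgroup.isMulCommutative_closure (G := Q) (k := {π x, π y}) (by
      rintro _ (rfl | rfl) _ (rfl | rfl)
      exacts [rfl, h.eq, h.symm.eq, rfl])).is_comm.comm ⟨a.1, hK ▸ a.2⟩ ⟨b.1, hK ▸ b.2⟩
    exact congrArg (fun z : closure {π x, π y} => (z : Q)) this)⟩
  have : IsCyclic K := IsCyclic.of_exponent_eq_card (IsZGroup.exponent_eq_card K)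
  obtain ⟨⟨_, g, hg, rfl⟩, hgen⟩ := IsCyclic.exists_generator (α := K)
  obtain ⟨m, hm⟩ := hgen ⟨π x, x, _root_.Subgroup.subset_closure (by simp), rfl⟩
  obtain ⟨n, hn⟩ := hgen ⟨π y, y, _root_.Subgroup.subset_closure (by simp), rfl⟩
  exact ⟨g, hg, m, n, (congrArg Subtype.val hm).symm, (congrArg Subtype.val hn).symm⟩

variable {L B Q D : Type} [Group L] [Group B] [Group Q] [Group D]

theorem sc_inj [Finite L] {ξ : L → ℂ} (hξ : IsIrrCharacter L ξ) (r : Rp ξ) : Function.Injective r.sc :=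
  (injective_iff_map_eq_one _).2 fun c h => by
    have h1 := r.smul c (r.j 1)
    rw [h, one_mul, r.res] at h1
    exact Units.ext ((mul_eq_right₀ (isIrr_apply_one_ne_zero hξ)).1 h1.symm)

theorem it_sc {ξ : L → ℂ} {r : Rp ξ} {a : Tw L} {P : r.W} (h : r.It a P) (c : ℂˣ) : r.It a (P * r.sc c) := fun u => by
  rw [← h u, mul_inv_rev, mul_assoc P, ← r.cen]
  group

theorem z_eq_one [Finite L] {ξ : L → ℂ} (hξ : IsIrrCharacter L ξ) {r : Rp ξ} {a : Tw L} {c : ℂˣ} (h : r.It a (r.sc c))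
    (hα : a.α = 1) : a = 1 := Tw.eq (fun u => sc_inj hξ r (by
  have h1 := h u
  rw [hα, ← r.cen, mul_inv_cancel_right, MulAut.one_apply, right_eq_mul] at h1
  rw [h1, Tw.one_z, map_one])) fun u => by rw [hα]; rfl

theorem z_cen [Finite L] {ξ : L → ℂ} (hξ : IsIrrCharacter L ξ) {r : Rp ξ} {a : Tw L} {P : r.W} (h : r.It a P) {z : L}
    (hz : z ∈ center L) (hα : a.α z = z) : a.z z = 1 := sc_inj hξ r (by
  obtain ⟨c, hc⟩ := r.schur (r.j z) fun u => by rw [← map_mul, ← map_mul, mem_center_iff.1 hz]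
  have h1 := h z
  rw [hα, hc, r.cen, mul_inv_cancel_right, right_eq_mul] at h1
  rw [h1, map_one])

/-- central automorphisms act as twists -/
theorem exists_tw [Finite L] {ξ : L → ℂ} (hξ : IsIrrCharacter L ξ) (r : Rp ξ) {α : MulAut L}
    (h : ∀ l, α l * l⁻¹ ∈ center L) : ∃ a : Tw L, a.α = α ∧ r.It a 1 ∧ ∀ l, α l = l → a.z l = 1 := by
  have h1 : ∀ l, ∃ c, r.j l = r.sc c * r.j (α l) := fun l => by
    obtain ⟨c, hc⟩ := r.schur (r.j (α l * l⁻¹)⁻¹) fun u => by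
      rw [← map_mul, ← map_mul, mem_center_iff.1 (inv_mem (h l))]
    exact ⟨c, by rw [← hc, ← map_mul, mul_inv_rev, inv_inv, inv_mul_cancel_right]⟩
  choose μ hμ using h1
  refine ⟨⟨MonoidHom.mk' μ fun a b => sc_inj hξ r (mul_right_cancel (b := r.j (α (a * b))) ?_), α⟩, rfl,
    fun u => by simpa using hμ u, fun l e => sc_inj hξ r ?_⟩
  · rw [← hμ, map_mul, hμ a, hμ b, map_mul α, map_mul, map_mul, mul_assoc, mul_assoc, ← mul_assoc (r.j _), r.cen, mul_assoc]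
  · have h2 := hμ l
    rw [e, right_eq_mul] at h2
    exact h2.trans (map_one _).symm

/-- `B` acts on `L`; `deg` is the degree of the field part, `φ` a field automorphism, `π` the action on the diagram of `L`;
`L'` is the group of the points of the derived group -/
structure Nt (L' : Subgroup L) (act : B →* MulAut L) (deg : B →* D) (φ : B) (π : B →* Q) : Prop where
  gen : ∀ v, ∃ i : ℤ, deg v = deg φ ^ i
  cφ : ∀ v, Commute (act φ) (act v)
  cπ : ∀ v, Commute (π φ) (π v)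
  stab : ∀ v, ∀ l ∈ L', act v l ∈ L'
  cen : ∀ v, deg v = 1 → π v = 1 → (∀ l, act v l * l⁻¹ ∈ center L) ∧ ∀ l ∈ L', act v l = l
  triv : ∀ v, π v = 1 → ∀ l, ∃ g ∈ L', ∃ z ∈ center L, act v l = l * g * z

/-- the admissible pairs which fix `ξ` -/
def Og (L' : Subgroup L) (act : B →* MulAut L) (hs : ∀ v, ∀ l ∈ L', act v l ∈ L') (ξ : L → ℂ) : Subgroup (Tw L × B) where
  carrier := {x | x.1 ∈ _root_.Cfsg.Agent.MO.Om.Fix ξ ∧ x.1.α = act x.2 ∧ ∀ l ∈ L', x.1.z l = 1}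
  one_mem' := ⟨one_mem _, (map_one act).symm, fun _ _ => rfl⟩
  mul_mem' := fun {a b} ha hb => ⟨mul_mem ha.1 hb.1, by rw [Prod.fst_mul, Prod.snd_mul, Tw.mul_α, ha.2.1, hb.2.1, map_mul],
    fun l hl => by rw [Prod.fst_mul, Tw.mul_z, hb.2.2 l hl, hb.2.1, ha.2.2 _ (hs _ l hl), mul_one]⟩
  inv_mem' := fun {a} ha => ⟨inv_mem ha.1, by rw [Prod.fst_inv, Prod.snd_inv, Tw.inv_α, ha.2.1, map_inv],
    fun l hl => by rw [Prod.fst_inv, Tw.inv_z, ha.2.1, ← map_inv act, ha.2.2 _ (hs _ l hl), inv_one]⟩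

/-- the statement (G) for `L`, for the honest commuting pairs `z φ^i g^m`, `z' φ^j g^n` -/
def Hon (L' : Subgroup L) (act : B →* MulAut L) (deg : B →* D) (φ : B) (ξ : L → ℂ) : Prop :=
  ∀ (a b : Tw L) (g : B) (i j m n : ℤ), deg g = 1 → a.α = act (φ ^ i * g ^ m) → b.α = act (φ ^ j * g ^ n) →
    (∀ l ∈ L', a.z l = 1) → (∀ l ∈ L', b.z l = 1) → a ∈ _root_.Cfsg.Agent.MO.Om.Fix ξ → b ∈ _root_.Cfsg.Agent.MO.Om.Fix ξ → a * b = b * a → OmT ξ a b 1 = 1

variable {L' : Subgroup L} {act : B →* MulAut L} {deg : B →* D} {φ : B} {π : B →* Q}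

theorem omT_comm [Finite L] (hc : ∀ x y : L, x * y = y * x) {ξ : L → ℂ} (hξ : IsIrrCharacter L ξ) {a b : Tw L}
    (ha : a ∈ _root_.Cfsg.Agent.MO.Om.Fix ξ) (hb : b ∈ _root_.Cfsg.Agent.MO.Om.Fix ξ) : OmT ξ a b 1 = 1 := by
  obtain ⟨r⟩ := exists_rp hξ
  obtain ⟨P, hP⟩ := r.ex a ha
  obtain ⟨R, hR⟩ := r.ex b hb
  obtain ⟨c, rfl⟩ := r.schur P fun u => by
    obtain ⟨c, e⟩ := r.schur (r.j u) fun w => by rw [← map_mul, ← map_mul, hc]
    rw [e, r.cen]
  exact Rp.omT_it hξ hP hR (s := 1) (by rw [← r.cen, map_one, map_one]; group)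

/-- the toral case -/
theorem hon_comm [Finite L] (hc : ∀ x y : L, x * y = y * x) {ξ : L → ℂ} (hξ : IsIrrCharacter L ξ) : Hon L' act deg φ ξ :=
  fun _ _ _ _ _ _ _ _ _ _ _ _ ha hb _ => omT_comm hc hξ ha hb

/-- **multiplicative intertwining operators** -/
theorem Nt.exists_it [Finite L] [Finite Q] [IsZGroup Q] [IsCyclic D] (h : Nt L' act deg φ π) {ξ : L → ℂ}
    (hξ : IsIrrCharacter L ξ) (r : Rp ξ) (hG : Hon L' act deg φ ξ) :
    ∃ I : Og L' act h.stab ξ →* r.W, (∀ x, r.It x.1.1 (I x)) ∧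
      ∀ x, deg x.1.2 = 1 → π x.1.2 = 1 → r.It x.1.1 1 → I x = 1 := by
  let E : Subgroup (Og L' act h.stab ξ × r.W) :=
    { carrier := {x | r.It x.1.1.1 x.2}
      one_mem' := r.it_one
      mul_mem' := fun ha hb => ha.mul hb
      inv_mem' := fun ha => ha.inv }
  let o : E →* Og L' act h.stab ξ := (MonoidHom.fst _ _).comp E.subtype
  let w : E →* r.W := (MonoidHom.snd _ _).comp E.subtype
  let t : E →* Tw L := (MonoidHom.fst _ _).comp ((Subgroup.subtype _).comp o)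
  let v : E →* B := (MonoidHom.snd _ _).comp ((Subgroup.subtype _).comp o)
  have it : ∀ x, r.It (t x) (w x) := fun x => x.2
  have tα : ∀ x, (t x).α = act (v x) := fun x => x.1.1.2.2.1
  have tz : ∀ x, ∀ l ∈ L', (t x).z l = 1 := fun x => x.1.1.2.2.2
  let f : E →* r.W × Q × D := w.prod ((π.comp v).prod (deg.comp v))
  let i : ℂˣ →* E := ((MonoidHom.inr _ _).comp r.sc).codRestrict E fun c =>
    show r.It 1 (r.sc c) by simpa using it_sc r.it_one c
  let s : ℂˣ →* f.range := f.rangeRestrict.comp i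
  have sv : ∀ c, (s c).1 = (r.sc c, 1, 1) := fun c => Prod.ext rfl (Prod.ext (map_one π) (map_one deg))
  -- replace the automorphism part
  have k0 : ∀ (x : E) (u : B), π u = π (v x) → deg u = deg (v x) →
      ∃ a : Tw L, a.α = act u ∧ r.It a (w x) ∧ ∀ l ∈ L', a.z l = 1 := fun x u h1 h2 => by
    obtain ⟨h3, h4⟩ := h.cen (u * (v x)⁻¹) (by rw [map_mul, map_inv, h2, mul_inv_cancel])
      (by rw [map_mul, map_inv, h1, mul_inv_cancel])
    obtain ⟨a, h5, h6, h7⟩ := exists_tw hξ r h3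
    refine ⟨a * t x, by rw [Tw.mul_α, h5, tα, ← map_mul, inv_mul_cancel_right], by simpa using h6.mul (it x), fun l hl => ?_⟩
    rw [Tw.mul_z, tz x l hl, tα, h7 _ (h4 _ (h.stab _ l hl)), mul_one]
  have k1 : ∀ (x y : f.range) c, x * y * x⁻¹ * y⁻¹ = s c → c = 1 := by
    rintro ⟨_, x, rfl⟩ ⟨_, y, rfl⟩ c e
    have e0 : f x * f y * (f x)⁻¹ * (f y)⁻¹ = (r.sc c, 1, 1) := (congrArg Subtype.val e).trans (sv c)
    have e1 : w x * w y * (w x)⁻¹ * (w y)⁻¹ = r.sc c := congrArg Prod.fst e0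
    have e2 : Commute (π (v x)) (π (v y)) := commutatorElement_eq_one_iff_commute.1 (congrArg (fun z => z.2.1) e0)
    obtain ⟨i, hi⟩ := h.gen (v x)
    obtain ⟨j, hj⟩ := h.gen (v y)
    obtain ⟨g, hg, m, n, hm, hn⟩ := exists_gen π (x := (φ ^ i)⁻¹ * v x) (y := (φ ^ j)⁻¹ * v y) (by
      simp only [map_mul, map_inv, map_zpow]
      exact Commute.mul_left (Commute.mul_right ((Commute.refl _).zpow_zpow i j).inv_inv ((h.cπ _).zpow_left i).inv_left)
        (Commute.mul_right ((h.cπ _).zpow_left j).inv_left.symm e2))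
    have h1 : deg g = 1 := (closure_le (K := deg.ker)).2 (by
      rintro _ (rfl | rfl)
      · rw [SetLike.mem_coe, MonoidHom.mem_ker, map_mul, map_inv, map_zpow, hi, inv_mul_cancel]
      · rw [SetLike.mem_coe, MonoidHom.mem_ker, map_mul, map_inv, map_zpow, hj, inv_mul_cancel]) hg
    obtain ⟨a, a1, a2, a3⟩ := k0 x (φ ^ i * g ^ m) (by rw [map_mul, map_zpow π g, ← hm, ← map_mul, mul_inv_cancel_left])
      (by simp only [map_mul, map_zpow, map_zpow, h1, one_zpow, mul_one, hi])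
    obtain ⟨b, b1, b2, b3⟩ := k0 y (φ ^ j * g ^ n) (by rw [map_mul, map_zpow π g, ← hn, ← map_mul, mul_inv_cancel_left])
      (by simp only [map_mul, map_zpow, map_zpow, h1, one_zpow, mul_one, hj])
    have h2 : Commute a.α b.α := by
      simp only [a1, b1, map_mul, map_zpow]
      exact Commute.mul_left (Commute.mul_right ((Commute.refl _).zpow_zpow i j) ((h.cφ g).zpow_zpow i n))
        (Commute.mul_right ((h.cφ g).zpow_zpow j m).symm ((Commute.refl _).zpow_zpow m n))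
    have h3 : a * b * a⁻¹ * b⁻¹ = 1 := z_eq_one hξ (e1 ▸ ((a2.mul b2).mul a2.inv).mul b2.inv)
      (commutatorElement_eq_one_iff_commute.2 h2)
    have h4 := hG a b g i j m n h1 a1 b1 a3 b3 a2.fix b2.fix (commutatorElement_eq_one_iff_commute.1 h3)
    rw [Rp.omT_it hξ a2 b2 (s := c) (by rw [e1, map_one, mul_one]), Units.val_eq_one] at h4
    exact inv_eq_one.1 h4
  let p : f.range →* Q := (MonoidHom.fst _ _).comp ((MonoidHom.snd _ _).comp f.range.subtype)
  obtain ⟨ψ, hψ⟩ := exists_lin_z p s (fun c x => Subtype.ext (by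
      rw [Subgroup.coe_mul, Subgroup.coe_mul, sv]
      exact Prod.ext (r.cen _ _) ((mul_one x.1.2).trans (one_mul x.1.2).symm))) (fun c => congrArg (fun z => z.2.1) (sv c)) (fun a b ha hb => by
    let d : p.ker →* D := (MonoidHom.snd _ _).comp ((MonoidHom.snd _ _).comp (f.range.subtype.comp p.ker.subtype))
    refine congrArg Subtype.val ((d.isMulCommutative_of_isCyclic_of_ker_le_center ?_).is_comm.comm ⟨a, ha⟩ ⟨b, hb⟩)
    rintro ⟨⟨_, x, rfl⟩, hx⟩ hd
    refine mem_center_iff.2 ?_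
    rintro ⟨⟨_, y, rfl⟩, hy⟩
    have x1 : π (v x) = 1 := hx
    have x2 : deg (v x) = 1 := hd
    have y1 : π (v y) = 1 := hy
    obtain ⟨a, a1, a2, a3⟩ := k0 x 1 (by rw [x1, map_one]) (by rw [x2, map_one])
    rw [map_one] at a1
    have h1 : t y * a = a * t y := Tw.eq (fun u => by
      obtain ⟨g, hg, z, hz, e⟩ := h.triv _ y1 u
      (rewrite [Tw.mul_z, Tw.mul_z]; simp only [a1]; simp only [MulAut.one_apply]; rewrite [tα, e]; simp +singlePass only [map_mul]; simp only [map_mul]; rewrite [a3 g hg, z_cen hξ a2 hz (by rw [a1]; rfl), mul_one, mul_one, mul_comm]; with_reducible rfl)) fun u => by rw [Tw.mul_α, Tw.mul_α, a1, mul_one, one_mul]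
    obtain ⟨c, hc⟩ := Rp.It.comm (it y) a2 (m := 1) (by rw [h1, map_one]; group)
    have h2 : (⟨f y, y, rfl⟩ * ⟨f x, x, rfl⟩ * (⟨f y, y, rfl⟩)⁻¹ * (⟨f x, x, rfl⟩)⁻¹ : f.range) = s c :=
      Subtype.ext ((Prod.ext (hc.trans (by rw [map_one, mul_one])) (Prod.ext
        (show π (v y) * π (v x) * (π (v y))⁻¹ * (π (v x))⁻¹ = 1 by rw [x1]; group)
        (show deg (v y) * deg (v x) * (deg (v y))⁻¹ * (deg (v x))⁻¹ = 1 by rw [x2]; group))).trans (sv c).symm)
    simp only [k1 _ _ _ h2, map_one] at h2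
    exact Subtype.ext (commutatorElement_eq_one_iff_commute.1 h2)) k1
  let ψ' : E →* r.W := MonoidHom.mk' (fun x => w x * r.sc (ψ (f.rangeRestrict x))⁻¹) fun x y => by
    simp only [map_mul, map_mul, map_mul, mul_inv, map_mul, mul_assoc, mul_assoc, ← mul_assoc (r.sc _), ← r.cen _ (w y), mul_assoc]
  have hs : Function.Surjective o := fun x => let ⟨P, hP⟩ := r.ex _ x.2.1; ⟨⟨(x, P), hP⟩, rfl⟩
  obtain ⟨I, hI⟩ := exists_fac o hs ψ' fun x hx => by
    obtain ⟨c, hc⟩ := (it x).uniq (show r.It (t x) 1 by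
      rw [show t x = 1 from congrArg (fun z : Og L' act h.stab ξ => z.1.1) hx]; exact r.it_one)
    obtain rfl : x = i c := Subtype.ext (Prod.ext hx (hc.trans (mul_one _)))
    change r.sc c * r.sc (ψ (s c))⁻¹ = 1
    rw [hψ, map_inv, mul_inv_cancel]
  refine ⟨I, fun x => ?_, fun x h1 h2 h3 => ?_⟩
  · obtain ⟨x, rfl⟩ := hs x
    rw [hI]
    exact it_sc (it x) _
  · refine (hI ⟨(x, 1), h3⟩).trans ?_
    change 1 * r.sc (ψ (f.rangeRestrict ⟨(x, 1), h3⟩))⁻¹ = 1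
    rw [show f.rangeRestrict ⟨(x, 1), h3⟩ = 1 from Subtype.ext (Prod.ext rfl (Prod.ext h2 h1)), map_one, inv_one, map_one,
      mul_one]

variable {M V S : Type} [Group M] [Group V] [Group S]

/-- `M = L V`; `B` acts on `M` and normalises `V`; the characters of `L ⊓ V` extend to their stabilisers in `B` -/
structure Sup (act : B →* MulAut L) (deg : B →* D) (π : B →* Q) (κ : L →* M) (j : V →* M) (s : V →* B)
    (ac : B →* MulAut M) : Prop where
  res : ∀ b l, ac b (κ l) = κ (act b l)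
  inn : ∀ v, ac (s v) = MulAut.conj (j v)
  cj : ∀ b v, ∃ v', s v' = b * s v * b⁻¹ ∧ j v' = ac b (j v)
  gen : ∀ m, ∃ l v, m = κ l * j v
  cap : ∀ v l, j v = κ l → deg (s v) = 1 ∧ π (s v) = 1 ∧ l ∈ center L
  mx : ∀ (U : Subgroup B) (θ : center L →* ℂˣ),
    (∀ b ∈ U, ∀ v (z z' : center L), j v = κ z → (z' : L) = act b z → θ z' = θ z) →
    ∃ Θ : U →* ℂˣ, ∀ (u : U) v (z : center L), u = s v → j v = κ z → Θ u = θ z

/-- `a` is the restriction to the inertia group of an admissible pair with automorphism `b` which fixes `ξ` -/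
structure Ad (L' : Subgroup L) (act : B →* MulAut L) (j : V →* M) (ac : B →* MulAut M) (n : L →* S) (h : S →* M)
    (ξ : L → ℂ) (a : Tw S) (b : B) : Prop where
  res : ∀ x, h (a.α x) = ac b (h x)
  zV : ∀ x v, h x = j v → a.z x = 1
  zL : ∀ l ∈ L', a.z (n l) = 1
  fix : ∀ l, a.z (n l) * ξ (act b l) = ξ l

theorem exists_cen [Finite L] {ξ : L → ℂ} (hξ : IsIrrCharacter L ξ) (r : Rp ξ) :
    ∃ θ : center L →* ℂˣ, ∀ z : center L, r.j z = r.sc (θ z) := by
  choose θ hθ using fun z : center L => r.schur (r.j z) fun u => by rw [← map_mul, ← map_mul, mem_center_iff.1 z.2]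
  exact ⟨MonoidHom.mk' θ fun a b => sc_inj hξ r (by rw [← hθ, map_mul r.sc, ← hθ, ← hθ, ← map_mul, Subgroup.coe_mul]), hθ⟩

/-- **the invariant extension** -/
theorem ext_tw [Finite L] [Finite S] [Finite Q] [IsZGroup Q] [IsCyclic D] (hN : Nt L' act deg φ π) {n : L →* S} {h : S →* M}
    {j : V →* M} {s : V →* B} {ac : B →* MulAut M} (hS : Sup act deg π (h.comp n) j s ac) {ξ : L → ℂ} (I : Inr n h ξ)
    (hG : Hon L' act deg φ ξ) : ∃ Θ, IsIrrCharacter S Θ ∧ (∀ l, Θ (n l) = ξ l) ∧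
      (∀ a b, Ad L' act j ac n h ξ a b → a ∈ _root_.Cfsg.Agent.MO.Om.Fix Θ) ∧
      ∀ a a' b b' v x, Ad L' act j ac n h ξ a b → Ad L' act j ac n h ξ a' b' → s v = b * b' * b⁻¹ * b'⁻¹ → h x = j v →
        a * a' * a⁻¹ * a'⁻¹ = inn x → OmT Θ a a' x = 1 := by
  obtain ⟨r⟩ := exists_rp I.irr
  obtain ⟨I0, it0, k0⟩ := hN.exists_it I.irr r hG
  obtain ⟨θ, hθ⟩ := exists_cen I.irr r
  have hs0 : ∀ b, ∀ l ∈ j.range.comap (h.comp n), act b l ∈ j.range.comap (h.comp n) := fun b l ⟨v, e⟩ =>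
    let ⟨v', _, e'⟩ := hS.cj b v
    ⟨v', e'.trans ((congrArg (ac b) e).trans (hS.res b l))⟩
  let O : Subgroup (Tw L × B) := Og L' act hN.stab ξ ⊓ Og _ act hs0 ξ
  let o : O →* Og L' act hN.stab ξ := inclusion inf_le_left
  obtain ⟨Θ0, hΘ⟩ := hS.mx (O.map (MonoidHom.snd _ _)) θ (by
    rintro _ ⟨x, hx, rfl⟩ v z z' e e'
    have h1 := it0 ⟨x, hx.1⟩ z
    rw [hθ, r.cen, mul_inv_cancel_right, hx.2.2.2 z ⟨v, e⟩, map_one, one_mul, hx.1.2.1] at h1
    exact sc_inj I.irr r ((hθ z').symm.trans ((congrArg r.j e').trans h1.symm)))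
  let u : O →* O.map (MonoidHom.snd _ _) := (MonoidHom.snd _ _).subgroupMap O
  let I1 : O →* r.W := MonoidHom.mk' (fun x => I0 (o x) * r.sc (Θ0 (u x))) fun x y => by
    simp only [map_mul, map_mul, map_mul, map_mul, map_mul, mul_assoc, mul_assoc, ← mul_assoc (r.sc _), ← r.cen _ (I0 (o y)),
      mul_assoc]
  have it1 : ∀ x : O, r.It x.1.1 (I1 x) := fun x => it_sc (it0 (o x)) _
  let V1 : Subgroup V := (_root_.Cfsg.Agent.MO.Om.Fix ξ).comap (aut.comp (act.comp s))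
  let ov : V1 →* O := (((aut.comp (act.comp s)).prod s).comp V1.subtype).codRestrict O fun v =>
    ⟨⟨v.2, rfl, fun _ _ => rfl⟩, v.2, rfl, fun _ _ => rfl⟩
  have c1 : ∀ v l, j v * h (n l) * (j v)⁻¹ = h (n (act (s v) l)) := fun v l =>
    (congrArg (fun a : MulAut M => a (h (n l))) (hS.inn v)).symm.trans (hS.res _ l)
  have c2 : ∀ v, v ∈ V1 ↔ j v ∈ h.range := fun v => by
    rw [I.stab]
    exact ⟨fun hv x y e => by
      rw [I.inj2 (e.trans (c1 v x))]
      exact (one_mul _).symm.trans (mem_Fix.1 hv x), fun hv => mem_Fix.2 fun x => (one_mul _).trans (hv x _ (c1 v x).symm)⟩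
  let F0 : L ⋊[act.comp (s.comp V1.subtype)] V1 →* M :=
    SemidirectProduct.lift (h.comp n) (j.comp V1.subtype) fun v => MonoidHom.ext fun l => (c1 v l).symm
  let F : L ⋊[act.comp (s.comp V1.subtype)] V1 →* S := (MonoidHom.ofInjective I.inj).symm.toMonoidHom.comp
    (F0.codRestrict _ fun y => mul_mem ⟨_, rfl⟩ ((c2 _).1 y.right.2))
  have hF : ∀ l (v : V1), h (F ⟨l, v⟩) = h (n l) * j v := fun l v => MonoidHom.apply_ofInjective_symm I.inj _
  let ψ : L ⋊[act.comp (s.comp V1.subtype)] V1 →* r.W := SemidirectProduct.lift r.j (I1.comp ov) fun v =>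
    MonoidHom.ext fun l => ((it1 (ov v) l).trans (by rw [show (ov v).1.1.z l = 1 from rfl, map_one, one_mul]; rfl)).symm
  have hs : Function.Surjective F := fun x => by
    obtain ⟨l, v, e⟩ := hS.gen (h x)
    exact ⟨⟨l, ⟨v, (c2 v).2 ⟨(n l)⁻¹ * x, by rw [map_mul, map_inv, e]; exact inv_mul_cancel_left _ _⟩⟩⟩,
      I.inj ((hF _ _).trans e.symm)⟩
  obtain ⟨J, hJ⟩ := exists_fac F hs ψ fun ⟨l, v⟩ hx => by
    have h1 : j v = h.comp n l⁻¹ := by
      rw [map_inv]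
      exact eq_inv_of_mul_eq_one_right ((hF l v).symm.trans ((congrArg h hx).trans (map_one h)))
    obtain ⟨h2, h3, h4⟩ := hS.cap _ _ h1
    have h5 : (ov v).1.1 = 1 := Tw.eq (fun _ => rfl) fun x => I.inj2 ((c1 v x).symm.trans (by
      rw [h1, ← MonoidHom.comp_apply h n x, ← map_inv, ← map_mul, ← map_mul, ← mem_center_iff.1 h4, mul_inv_cancel_right]
      rfl))
    change r.j l * (I0 (o (ov v)) * r.sc (Θ0 (u (ov v)))) = 1
    rw [k0 (o (ov v)) h2 h3 (h5 ▸ r.it_one), hΘ _ v ⟨_, h4⟩ rfl h1, ← hθ, one_mul, ← map_mul, mul_inv_cancel, map_one]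
  have hJ' : ∀ l (v : V1) x, h x = h (n l) * j v → J x = r.j l * I1 (ov v) := fun l v x e => by
    rw [I.inj (e.trans (hF l v).symm)]
    exact hJ ⟨l, v⟩
  have h1 : ∀ l, r.Ψ (J (n l)) = ξ l := fun l => by
    rw [hJ' l 1 _ (by simp only [_root_.OneMemClass.coe_one, _root_.map_one, _root_.mul_one]), map_one, map_one, mul_one, r.res]
  have h2 : IsIrrCharacter S fun x => r.Ψ (J x) :=
    MK.E.isIrr_of_comp n (isCharacter_comp J r.chr) (by simpa only [h1] using I.irr)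
  have h3 : ∀ {a b}, Ad L' act j ac n h ξ a b → ∀ l, a.α (n l) = n (act b l) := fun {a b} A l =>
    I.inj ((A.res _).trans (hS.res b l))
  let pr : ∀ {a b}, Ad L' act j ac n h ξ a b → O := fun {a b} A =>
    ⟨(⟨a.z.comp n, act b⟩, b), ⟨mem_Fix.2 A.fix, rfl, A.zL⟩, mem_Fix.2 A.fix, rfl, fun l ⟨v, e⟩ => A.zV _ v e.symm⟩
  have key : ∀ {a b} (A : Ad L' act j ac n h ξ a b) x, I1 (pr A) * J x * (I1 (pr A))⁻¹ = r.sc (a.z x) * J (a.α x) := by
    intro a b A x
    obtain ⟨⟨l, v⟩, rfl⟩ := hs x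
    obtain ⟨y, hy⟩ := (c2 v).1 v.2
    obtain ⟨v', e1, e2⟩ := hS.cj b v
    have e3 : F ⟨l, v⟩ = n l * y := I.inj (by rw [hF, map_mul, hy])
    have e4 : v' ∈ V1 := (c2 v').2 ⟨a.α y, by rw [A.res, hy, e2]⟩
    have e5 : pr A * ov v * (pr A)⁻¹ = ov ⟨v', e4⟩ := by
      rw [mul_inv_eq_iff_eq_mul]
      refine Subtype.ext (Prod.ext (Tw.eq (fun w => ?_) fun w => ?_) (mul_inv_eq_iff_eq_mul.1 e1.symm))
      · change 1 * a.z (n (act (s v) w)) = a.z (n w) * 1
        rw [one_mul, mul_one, ← z_conj a.z y (n w)]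
        exact congrArg a.z (I.inj (by rw [← c1, map_mul, map_mul, map_inv, hy]))
      · change act b (act (s v) w) = act (s v') (act b w)
        rw [← MulAut.mul_apply, ← MulAut.mul_apply, ← map_mul, ← map_mul, e1, inv_mul_cancel_right]
    rw [hJ' l v _ (hF l v), hJ' (act b l) ⟨v', e4⟩ (a.α _) (by rw [A.res, hF, map_mul, ← e2]; exact congrArg (· * _) (hS.res b l)),
      ← e5, map_mul I1, map_mul I1, map_inv I1, e3, map_mul a.z, A.zV y v hy, mul_one, ← mul_assoc (r.sc _)]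
    refine Eq.trans ?_ (congrArg (· * _) (it1 (pr A) l))
    group
  refine ⟨_, h2, h1, fun a b A => mem_Fix.2 fun x => ?_, fun a a' b b' v x A A' e1 e2 e3 => ?_⟩
  · rw [← r.smul, ← key A, isCharacter_isClassFunction r.chr]
  · have e4 : v ∈ V1 := (c2 v).2 ⟨x, e2⟩
    have e5 : pr A * pr A' * (pr A)⁻¹ * (pr A')⁻¹ = ov ⟨v, e4⟩ := by
      refine Subtype.ext (Prod.ext ?_ e1.symm)
      change _ = aut (act (s v))
      rw [Subgroup.coe_mul, Subgroup.coe_mul, Subgroup.coe_mul, Subgroup.coe_inv, Subgroup.coe_inv, Prod.fst_mul, Prod.fst_mul,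
        Prod.fst_mul, Prod.fst_inv, Prod.fst_inv, mul_inv_eq_iff_eq_mul, mul_inv_eq_iff_eq_mul, mul_assoc]
      refine Tw.eq (fun w => ?_) fun w => ?_
      · change a'.z (n w) * a.z (n (act b' w)) = a.z (n w) * a'.z (n (act b w)) * 1
        rw [mul_one, ← h3 A, ← h3 A']
        exact (comm_iff.1 e3).2 _
      · change act b (act b' w) = act (s v) (act b' (act b w))
        rw [e1, ← MulAut.mul_apply, ← MulAut.mul_apply, ← MulAut.mul_apply, ← map_mul, ← map_mul, ← map_mul]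
        congr 2
        group
    refine (one_mul _).symm.trans (omT_wit r.chr h2 (fun _ => rfl) (fun w => ⟨_, r.smul _, key A w⟩)
      (fun w => ⟨_, r.smul _, key A' w⟩) fun w => ?_)
    rw [← map_inv I1, ← map_inv I1, ← map_mul, ← map_mul, ← map_mul, e5, hJ' 1 ⟨v, e4⟩ x (by simpa only [_root_.map_one, _root_.one_mul] using e2), map_one, one_mul,
      one_mul]

end Cfsg.Agent.MO.Lc
end

private theorem dce_b3da0c4d7390 : _root_.True := by
  try have : _root_.True := by simp only [_root_.Cfsg.Agent.MO.Om.OmT.eq_1]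
  try have : _root_.True := by simp only [_root_.Cfsg.Agent.MO.Lc.Nl.io.congr_simp]
  try have : _root_.True := by simp only [_root_.Cfsg.Agent.MO.Om.Tw.act.eq_1]
  try have : _root_.True := by simp only [_root_.Cfsg.Agent.MO.Om.rh.eq_1]
  try have : _root_.True := by simp only [_root_.Cfsg.Agent.MO.B.SS.congr_simp]
  try have : _root_.True := by simp only [_root_.Cfsg.Agent.MO.B.PS.congr_simp]
  try have : _root_.True := by simp only [_root_.Cfsg.Agent.MO.Om.SF.eq_1]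
  try have : _root_.True := by simp only [_root_.Cfsg.Agent.MO.B.cj.congr_simp]
  try have : _root_.True := by simp only [_root_.Cfsg.Agent.MO.B.SS.eq_1]
  try have : _root_.True := by simp only [_root_.Cfsg.Agent.MO.B.rho.congr_simp]
  try have : _root_.True := by simp only [_root_.Cfsg.Agent.MO.B.IS.eq_1]
  try have : _root_.True := by simp only [_root_.Cfsg.Agent.MO.Om.TT.eq_1]
  try have : _root_.True := by simp only [_root_.Cfsg.Agent.MO.B.AS.eq_1]
  exact _root_.True.intro
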